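/-
Tables for the 27-dimensional representation of the group of type E6 on the cubic form.
-/
import Cfsg.Agent.Lib.Chev.Sparse

set_option autoImplicit false

namespace CfsgLib.Chev.E6Form

/-- coordinates -/
abbrev ι : Type := Fin 3 × Fin 3 × Fin 3

/-- the coordinates in lexicographic order -/
def idx : List ι := [(0, 0, 0), (0, 0, 1), (0, 0, 2), (0, 1, 0), (0, 1, 1), (0, 1, 2), (0, 2, 0), (0, 2, 1), (0, 2, 2), (1, 0,
  0), (1, 0, 1), (1, 0, 2), (1, 1, 0), (1, 1, 1), (1, 1, 2), (1, 2, 0), (1, 2, 1), (1, 2, 2), (2, 0, 0),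
  (2, 0, 1), (2, 0, 2), (2, 1, 0), (2, 1, 1), (2, 1, 2), (2, 2, 0), (2, 2, 1), (2, 2, 2)]

/-- coordinate by number -/
def cd (n : ℕ) : ι := idx.getD n (0, 0, 0)

/-- the monomials of the cubic form -/
def monN : List (ℕ × ℕ × ℕ × ℤ) := [(0, 4, 8, 1), (0, 5, 7, -1), (1, 3, 8, -1), (1, 5, 6, 1), (2, 3, 7, 1), (2, 4, 6, -1), (9, 13, 17, 1),
  (9, 14, 16, -1), (10, 12, 17, -1), (10, 14, 15, 1), (11, 12, 16, 1), (11, 13, 15, -1), (18, 22, 26, 1),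
  (18, 23, 25, -1), (19, 21, 26, -1), (19, 23, 24, 1), (20, 21, 25, 1), (20, 22, 24, -1), (0, 9, 18, -1),
  (0, 10, 21, -1), (0, 11, 24, -1), (1, 12, 18, -1), (1, 13, 21, -1), (1, 14, 24, -1), (2, 15, 18, -1),
  (2, 16, 21, -1), (2, 17, 24, -1), (3, 9, 19, -1), (3, 10, 22, -1), (3, 11, 25, -1), (4, 12, 19, -1), (4,
  13, 22, -1), (4, 14, 25, -1), (5, 15, 19, -1), (5, 16, 22, -1), (5, 17, 25, -1), (6, 9, 20, -1), (6, 10,
  23, -1), (6, 11, 26, -1), (7, 12, 20, -1), (7, 13, 23, -1), (7, 14, 26, -1), (8, 15, 20, -1), (8, 16,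
  23, -1), (8, 17, 26, -1)]

/-- the monomials -/
def mon : List (ι × ι × ι × ℤ) := monN.map fun m => (cd m.1, cd m.2.1, cd m.2.2.1, m.2.2.2)

/-- sources, targets and signs of the root elements -/
noncomputable def entT : Tr (List (ℕ × ℕ × ℤ)) :=
  (.node [(0, 6, 1), (1, 7, 1), (2, 8, 1), (20, 18, -1), (23, 21, -1), (26, 24, -1)]
  (.node [(3, 6, 1), (4, 7, 1), (5, 8, 1), (20, 19, -1), (23, 22, -1), (26, 25, -1)]
  (.node [(2, 22, -1), (5, 21, 1), (10, 7, -1), (13, 6, 1), (20, 17, 1), (26, 15, -1)]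
  (.node [(1, 19, -1), (4, 18, 1), (9, 8, 1), (15, 6, -1), (23, 14, -1), (26, 13, 1)]
  (.node [(1, 0, 1), (4, 3, 1), (7, 6, 1), (9, 12, -1), (10, 13, -1), (11, 14, -1)]
  (.node [(3, 13, -1), (4, 10, 1), (15, 25, 1), (17, 19, -1), (21, 8, 1), (23, 2, -1)]
  (.node [(3, 20, -1), (6, 19, 1), (12, 2, -1), (15, 1, 1), (21, 11, -1), (24, 10, 1)]
  .nil
  .nil)
  .nil)
  (.node [(5, 26, 1), (8, 25, -1), (11, 1, 1), (14, 0, -1), (18, 16, 1), (21, 15, -1)]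
  .nil
  .nil))
  (.node [(0, 13, 1), (1, 10, -1), (15, 24, -1), (17, 18, 1), (22, 8, 1), (23, 5, -1)]
  (.node [(2, 26, 1), (8, 24, -1), (11, 4, -1), (14, 3, 1), (19, 16, -1), (22, 15, 1)]
  (.node [(6, 0, 1), (7, 1, 1), (8, 2, 1), (18, 20, -1), (21, 23, -1), (24, 26, -1)]
  .nil
  .nil)
  .nil)
  (.node [(7, 17, -1), (8, 14, 1), (9, 23, -1), (10, 20, 1), (24, 3, -1), (25, 0, 1)]
  .nil
  .nil)))
  (.node [(4, 15, 1), (5, 12, -1), (10, 25, 1), (11, 22, -1), (18, 6, -1), (20, 0, 1)]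
  (.node [(0, 15, -1), (2, 9, 1), (13, 24, 1), (14, 21, -1), (19, 7, 1), (20, 4, -1)]
  (.node [(10, 9, 1), (13, 12, 1), (16, 15, 1), (18, 21, -1), (19, 22, -1), (20, 23, -1)]
  (.node [(6, 12, 1), (7, 9, -1), (16, 26, 1), (17, 23, -1), (18, 5, 1), (19, 2, -1)]
  .nil
  .nil)
  .nil)
  (.node [(4, 23, 1), (7, 22, -1), (10, 2, -1), (16, 0, 1), (18, 14, -1), (24, 12, 1)]
  .nil
  .nil))
  (.node [(3, 16, 1), (5, 10, -1), (12, 25, 1), (14, 19, -1), (21, 7, 1), (23, 1, -1)]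
  (.node [(1, 26, 1), (7, 24, -1), (11, 5, 1), (17, 3, -1), (19, 13, -1), (22, 12, 1)]
  .nil
  .nil)
  (.node [(0, 23, -1), (6, 21, 1), (13, 5, 1), (16, 4, -1), (19, 11, -1), (25, 9, 1)]
  .nil
  .nil))))
  (.node [(1, 25, -1), (4, 24, 1), (11, 8, 1), (17, 6, -1), (20, 13, -1), (23, 12, 1)]
  (.node [(1, 16, -1), (2, 13, 1), (9, 24, 1), (11, 18, -1), (22, 6, -1), (23, 3, 1)]
  (.node [(0, 22, 1), (3, 21, -1), (13, 8, 1), (16, 7, -1), (20, 11, -1), (26, 9, 1)]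
  (.node [(11, 9, -1), (14, 12, -1), (17, 15, -1), (18, 24, 1), (19, 25, 1), (20, 26, 1)]
  (.node [(6, 16, -1), (8, 10, 1), (12, 26, -1), (14, 20, 1), (21, 4, 1), (22, 1, -1)]
  .nil
  .nil)
  .nil)
  (.node [(5, 20, 1), (8, 19, -1), (9, 1, 1), (12, 0, -1), (21, 17, 1), (24, 16, -1)]
  .nil
  .nil))
  (.node [(0, 3, 1), (1, 4, 1), (2, 5, 1), (19, 18, -1), (22, 21, -1), (25, 24, -1)]
  (.node [(2, 20, 1), (8, 18, -1), (9, 4, -1), (12, 3, 1), (22, 17, -1), (25, 16, 1)]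
  .nil
  .nil)
  (.node [(0, 2, 1), (3, 5, 1), (6, 8, 1), (15, 9, -1), (16, 10, -1), (17, 11, -1)]
  .nil
  .nil)))
  (.node [(4, 17, 1), (5, 14, -1), (9, 22, 1), (10, 19, -1), (24, 6, -1), (26, 0, 1)]
  (.node [(0, 17, -1), (2, 11, 1), (12, 21, 1), (13, 18, -1), (25, 7, 1), (26, 4, -1)]
  (.node [(10, 11, 1), (13, 14, 1), (16, 17, 1), (24, 21, -1), (25, 22, -1), (26, 23, -1)]
  (.node [(6, 14, 1), (7, 11, -1), (15, 23, 1), (16, 20, -1), (24, 5, 1), (25, 2, -1)]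
  .nil
  .nil)
  .nil)
  (.node [(7, 15, -1), (8, 12, 1), (10, 26, -1), (11, 23, 1), (18, 3, -1), (19, 0, 1)]
  .nil
  .nil))
  (.node [(2, 1, 1), (5, 4, 1), (8, 7, 1), (12, 15, -1), (13, 16, -1), (14, 17, -1)]
  (.node [(1, 20, 1), (7, 18, -1), (9, 5, 1), (15, 3, -1), (22, 14, -1), (25, 13, 1)]
  .nil
  .nil)
  (.node [(3, 26, -1), (6, 25, 1), (14, 2, -1), (17, 1, 1), (18, 10, -1), (21, 9, 1)]
  .nil
  .nil)))))
  (.node [(2, 25, -1), (5, 24, 1), (11, 7, -1), (14, 6, 1), (20, 16, -1), (23, 15, 1)]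
  (.node [(2, 19, -1), (5, 18, 1), (9, 7, -1), (12, 6, 1), (23, 17, -1), (26, 16, 1)]
  (.node [(1, 15, 1), (2, 12, -1), (10, 24, 1), (11, 21, -1), (19, 6, 1), (20, 3, -1)]
  (.node [(0, 25, 1), (3, 24, -1), (14, 8, 1), (17, 7, -1), (20, 10, 1), (23, 9, -1)]
  (.node [(3, 14, 1), (4, 11, -1), (15, 22, 1), (16, 19, -1), (24, 8, -1), (26, 2, 1)]
  (.node [(6, 15, -1), (8, 9, 1), (13, 26, 1), (14, 23, -1), (18, 4, 1), (19, 1, -1)]
  .nil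
  .nil)
  .nil)
  (.node [(5, 23, -1), (8, 22, 1), (10, 1, -1), (13, 0, 1), (18, 17, 1), (24, 15, -1)]
  .nil
  .nil))
  (.node [(0, 14, -1), (1, 11, 1), (15, 21, -1), (16, 18, 1), (25, 8, -1), (26, 5, 1)]
  (.node [(2, 23, -1), (8, 21, 1), (10, 4, 1), (13, 3, -1), (19, 17, -1), (25, 15, 1)]
  .nil
  .nil)
  (.node [(0, 1, 1), (3, 4, 1), (6, 7, 1), (12, 9, -1), (13, 10, -1), (14, 11, -1)]
  .nil
  .nil)))
  (.node [(4, 16, -1), (5, 13, 1), (9, 25, 1), (11, 19, -1), (21, 6, 1), (23, 0, -1)]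
  (.node [(0, 16, 1), (2, 10, -1), (12, 24, 1), (14, 18, -1), (22, 7, -1), (23, 4, 1)]
  (.node [(9, 10, 1), (12, 13, 1), (15, 16, 1), (21, 18, -1), (22, 19, -1), (23, 20, -1)]
  (.node [(6, 13, 1), (7, 10, -1), (15, 26, -1), (17, 20, 1), (21, 5, 1), (22, 2, -1)]
  .nil
  .nil)
  .nil)
  (.node [(4, 20, -1), (7, 19, 1), (9, 2, 1), (15, 0, -1), (21, 14, -1), (24, 13, 1)]
  .nil
  .nil))
  (.node [(3, 17, -1), (5, 11, 1), (12, 22, 1), (13, 19, -1), (24, 7, -1), (26, 1, 1)]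
  (.node [(1, 23, -1), (7, 21, 1), (10, 5, -1), (16, 3, 1), (19, 14, -1), (25, 12, 1)]
  .nil
  .nil)
  (.node [(0, 20, 1), (6, 18, -1), (12, 5, -1), (15, 4, 1), (22, 11, -1), (25, 10, 1)]
  .nil
  .nil))))
  (.node [(1, 22, -1), (4, 21, 1), (10, 8, 1), (16, 6, -1), (20, 14, 1), (26, 12, -1)]
  (.node [(1, 17, 1), (2, 14, -1), (9, 21, 1), (10, 18, -1), (25, 6, 1), (26, 3, -1)]
  (.node [(0, 19, 1), (3, 18, -1), (12, 8, 1), (15, 7, -1), (23, 11, 1), (26, 10, -1)]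
  (.node [(11, 10, 1), (14, 13, 1), (17, 16, 1), (21, 24, -1), (22, 25, -1), (23, 26, -1)]
  (.node [(6, 17, -1), (8, 11, 1), (12, 23, 1), (13, 20, -1), (24, 4, 1), (25, 1, -1)]
  .nil
  .nil)
  .nil)
  (.node [(4, 26, -1), (7, 25, 1), (11, 2, 1), (17, 0, -1), (18, 13, -1), (21, 12, 1)]
  .nil
  .nil))
  (.node [(3, 15, -1), (5, 9, 1), (13, 25, 1), (14, 22, -1), (18, 7, -1), (20, 1, 1)]
  (.node [(1, 2, 1), (4, 5, 1), (7, 8, 1), (15, 12, -1), (16, 13, -1), (17, 14, -1)]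
  .nil
  .nil)
  (.node [(0, 26, 1), (6, 24, -1), (14, 5, -1), (17, 4, 1), (19, 10, -1), (22, 9, 1)]
  .nil
  .nil)))
  (.node [(2, 0, 1), (5, 3, 1), (8, 6, 1), (9, 15, -1), (10, 16, -1), (11, 17, -1)]
  (.node [(0, 12, -1), (1, 9, 1), (16, 24, -1), (17, 21, 1), (19, 8, -1), (20, 5, 1)]
  (.node [(9, 11, -1), (12, 14, -1), (15, 17, -1), (24, 18, 1), (25, 19, 1), (26, 20, 1)]
  (.node [(6, 3, 1), (7, 4, 1), (8, 5, 1), (19, 20, -1), (22, 23, -1), (25, 26, -1)]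
  .nil
  .nil)
  .nil)
  (.node [(7, 16, -1), (8, 13, 1), (9, 26, 1), (11, 20, -1), (21, 3, -1), (22, 0, 1)]
  .nil
  .nil))
  (.node [(3, 12, 1), (4, 9, -1), (16, 25, 1), (17, 22, -1), (18, 8, -1), (20, 2, 1)]
  (.node [(3, 0, 1), (4, 1, 1), (5, 2, 1), (18, 19, -1), (21, 22, -1), (24, 25, -1)]
  .nil
  .nil)
  (.node [(3, 23, 1), (6, 22, -1), (13, 2, 1), (16, 1, -1), (18, 11, -1), (24, 9, 1)]
  .nil
  .nil))))))

/-- the entries of a root, by number -/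
noncomputable def entN (r : ℕ) : List (ℕ × ℕ × ℤ) := entT.get [] r

/-- the entries of a root -/
noncomputable def ent (r : ℕ) : List (ι × ι × ℤ) := (entN r).map fun e => (cd e.1, cd e.2.1, e.2.2)

/-- for each step the roots clearing the neighbours and the paths inside the class -/
def certN : List (List (ℕ × ℕ) × List (ℕ × List (ℕ × ℕ))) := [([(1, 56), (2, 57), (3, 25), (6, 0), (12, 22), (13, 23), (14, 24), (15, 19), (16, 20), (17, 21), (19, 18),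
  (20, 60), (22, 17), (23, 59), (25, 16), (26, 58)], [(0, []), (1, [(15, 0)]), (2, [(14, 0)]), (3, [(46,
  0)]), (6, [(71, 0)]), (12, [(49, 0)]), (13, [(48, 0)]), (14, [(47, 0)]), (15, [(52, 0)]), (16, [(51,
  0)]), (17, [(50, 0)]), (19, [(53, 0)]), (20, [(11, 0)]), (22, [(54, 0)]), (23, [(12, 0)]), (25, [(55,
  0)]), (26, [(13, 0)]), (4, [(46, 1), (15, 0)]), (7, [(71, 1), (15, 0)]), (9, [(49, 1), (15, 0)]), (10,
  [(48, 1), (15, 0)]), (11, [(47, 1), (15, 0)]), (5, [(46, 2), (14, 0)]), (8, [(71, 2), (14, 0)]), (18,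
  [(53, 3), (46, 0)]), (21, [(54, 3), (46, 0)]), (24, [(55, 3), (46, 0)])]),
  ([(0, 15), (2, 42), (15, 8), (16, 9), (17, 10), (19, 7), (20, 45), (22, 6), (23, 44), (25, 5), (26, 43)],
  [(1, []), (2, [(29, 1)]), (15, [(63, 1)]), (16, [(62, 1)]), (17, [(61, 1)]), (19, [(64, 1)]), (20, [(26,
  1)]), (22, [(65, 1)]), (23, [(27, 1)]), (25, [(66, 1)]), (26, [(28, 1)]), (12, [(63, 2), (29, 1)]), (13,
  [(62, 2), (29, 1)]), (14, [(61, 2), (29, 1)]), (3, [(26, 15), (63, 1)]), (6, [(64, 15), (63, 1)])]),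
  ([(0, 14), (1, 29), (19, 4), (20, 41), (22, 3), (23, 40), (25, 2), (26, 39)], [(2, []), (19, [(67, 2)]),
  (20, [(30, 2)]), (22, [(68, 2)]), (23, [(31, 2)]), (25, [(69, 2)]), (26, [(32, 2)]), (16, [(32, 19),
  (67, 2)]), (17, [(31, 19), (67, 2)]), (15, [(32, 22), (68, 2)])]),
  ([(0, 46), (6, 1), (12, 30), (13, 31), (14, 32), (15, 26), (16, 27), (17, 28), (20, 63), (23, 62), (26,
  61)], [(3, []), (6, [(70, 3)])]),
  ([(15, 11), (16, 12), (17, 13), (20, 52), (23, 51), (26, 50)], [(4, [])]),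
  ([(20, 49), (23, 48), (26, 47)], [(5, [])]),
  ([(0, 71), (3, 70), (12, 67), (13, 68), (14, 69), (15, 64), (16, 65), (17, 66)], [(6, [])]),
  ([(15, 53), (16, 54), (17, 55)], [(7, [])]),
  ([], [(8, [])]),
  ([(10, 36), (11, 38)], [(9, []), (10, [(35, 9)]), (11, [(33, 9)])]),
  ([(9, 35), (11, 37)], [(10, []), (11, [(34, 10)])]),
  ([(9, 33), (10, 34)], [(11, [])]),
  ([], [(12, [])]),
  ([], [(13, [])]),
  ([], [(14, [])]),
  ([], [(15, [])]),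
  ([], [(16, [])]),
  ([], [(17, [])]),
  ([], [(18, [])]),
  ([], [(19, [])]),
  ([], [(20, [])]),
  ([], [(21, [])]),
  ([], [(22, [])]),
  ([], [(23, [])]),
  ([], [(24, [])]),
  ([], [(25, [])]),
  ([], [(26, [])])]

/-- six coordinates determining the torus -/
def seed : Fin 6 → ι := ![cd 0, cd 1, cd 2, cd 3, cd 9, cd 10]

/-- the inverse of the weight matrix of the six coordinates -/
def minv : Fin 6 → Fin 6 → ℤ := ![![-1, 1, 1, 1, 0, 0], ![0, 1, 1, 1, 0, 0], ![-1, 1, 2, 2, 0, 0], ![-1, 2, 2, 3, 0, 0], ![-2, 2, 2, 2, -1, -1], ![-1, 1, 1, 1, -1, 0]]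

/-- completing a diagonal from the six coordinates -/
def propN : List (ℕ × ℕ × ℕ) := [(8, 1, 3), (7, 2, 3), (18, 0, 9), (21, 0, 10), (12, 1, 18), (13, 1, 21), (15, 2, 18), (16, 2, 21), (19,
  3, 9), (22, 3, 10), (4, 12, 19), (5, 15, 19), (20, 7, 12), (23, 7, 13), (6, 1, 5), (17, 9, 13), (14, 9,
  16), (11, 12, 16), (26, 18, 22), (25, 18, 23), (24, 19, 23)]

/-- the simple roots -/
def simpleR : Fin 6 → ℕ := ![56, 46, 42, 39, 37, 36]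

end CfsgLib.Chev.E6Form
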