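/-
The cubic form in 27 variables: polarisations, their invariance, and root elements preserving it.
-/
import Cfsg.Agent.Lib.Chev.E6Form.Data
import Cfsg.Agent.Lib.Chev.Sparse
import Cfsg.Prelude.Def_E6

set_option autoImplicit false
set_option maxRecDepth 100000
set_option linter.unusedSimpArgs false
set_option linter.unusedSectionVars false

namespace CfsgLib.Chev.E6Form

open Cfsg.Lie Matrix CfsgLib.Chev

variable {F : Type*} [Field F]

/-- a basis vector -/
abbrev bs (F : Type*) [Field F] (i : ι) : ι → F := Pi.single i 1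

lemma mem_idx (i : ι) : i ∈ idx := by revert i; decide +kernel

/-- the form given by a list of monomials -/
def TL (L : List (ι × ι × ι × ℤ)) (v : ι → F) : F :=
  (L.map fun m => (m.2.2.2 : F) * (v m.1 * v m.2.1 * v m.2.2.1)).sum

/-- the part quadratic in the first and linear in the second variable -/
def AL (L : List (ι × ι × ι × ℤ)) (v w : ι → F) : F :=
  (L.map fun m => (m.2.2.2 : F) *
    (w m.1 * v m.2.1 * v m.2.2.1 + v m.1 * w m.2.1 * v m.2.2.1 + v m.1 * v m.2.1 * w m.2.2.1)).sum

/-- the full polarisation -/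
def BL (L : List (ι × ι × ι × ℤ)) (u v w : ι → F) : F :=
  (L.map fun m => (m.2.2.2 : F) *
    (u m.1 * v m.2.1 * w m.2.2.1 + u m.1 * w m.2.1 * v m.2.2.1 + v m.1 * u m.2.1 * w m.2.2.1 +
      v m.1 * w m.2.1 * u m.2.2.1 + w m.1 * u m.2.1 * v m.2.2.1 + w m.1 * v m.2.1 * u m.2.2.1)).sum

/-- the form -/
abbrev T (v : ι → F) : F := TL mon v
/-- quadratic-linear part -/
abbrev QA (v w : ι → F) : F := AL mon v w
/-- trilinear part -/
abbrev QB (u v w : ι → F) : F := BL mon u v w

lemma TL_add_smul (L : List (ι × ι × ι × ℤ)) (v w : ι → F) (s : F) :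
    TL L (v + s • w) = TL L v + s * AL L v w + s ^ 2 * AL L w v + s ^ 3 * TL L w := by
  induction L with
  | nil => simp [TL, AL]
  | cons m L ih =>
    simp only [TL, AL, List.map_cons, List.sum_cons, Pi.add_apply, Pi.smul_apply, smul_eq_mul] at ih ⊢
    rw [ih]; ring

lemma AL_add (L : List (ι × ι × ι × ℤ)) (u v w : ι → F) :
    AL L (u + v) w = AL L u w + AL L v w + BL L u v w := by
  induction L with
  | nil => simp [AL, BL]
  | cons m L ih =>
    simp only [AL, BL, List.map_cons, List.sum_cons, Pi.add_apply] at ih ⊢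
    rw [ih]; ring

lemma BL_smul (L : List (ι × ι × ι × ℤ)) (c : F) (u v w : ι → F) : BL L (c • u) v w = c * BL L u v w := by
  induction L with
  | nil => simp [BL]
  | cons m L ih =>
    simp only [BL, List.map_cons, List.sum_cons, Pi.smul_apply, smul_eq_mul] at ih ⊢
    rw [ih]; ring

lemma BL_smul₂ (L : List (ι × ι × ι × ℤ)) (c : F) (u v w : ι → F) : BL L u (c • v) w = c * BL L u v w := by
  induction L with
  | nil => simp [BL]
  | cons m L ih =>
    simp only [BL, List.map_cons, List.sum_cons, Pi.smul_apply, smul_eq_mul] at ih ⊢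
    rw [ih]; ring

lemma BL_smul₃ (L : List (ι × ι × ι × ℤ)) (c : F) (u v w : ι → F) : BL L u v (c • w) = c * BL L u v w := by
  induction L with
  | nil => simp [BL]
  | cons m L ih =>
    simp only [BL, List.map_cons, List.sum_cons, Pi.smul_apply, smul_eq_mul] at ih ⊢
    rw [ih]; ring

lemma cubicT_eq (v : ι → F) : cubicT v = T v := by
  simp only [cubicT, T, TL, mon, monN, cd, idx, List.map_cons, List.map_nil, List.sum_cons, List.sum_nil,
    List.getD_cons_zero, List.getD_cons_succ, Int.cast_one, Int.cast_neg, Matrix.det_fin_three, Matrix.trace,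
    Matrix.diag, Matrix.mul_apply, Fin.sum_univ_three, mat3, Matrix.of_apply]
  ring

/-- the action on columns -/
abbrev ap (g : GL ι F) (v : ι → F) : ι → F := (g : Matrix ι ι F) *ᵥ v

lemma ap_mul (g h : GL ι F) (v : ι → F) : ap (g * h) v = ap g (ap h v) := by
  simp [ap, Matrix.mulVec_mulVec]

lemma ap_one (v : ι → F) : ap (1 : GL ι F) v = v := by simp [ap]

lemma ap_inv_ap (g : GL ι F) (v : ι → F) : ap g⁻¹ (ap g v) = v := by rw [← ap_mul, inv_mul_cancel, ap_one]

lemma ap_ap_inv (g : GL ι F) (v : ι → F) : ap g (ap g⁻¹ v) = v := by rw [← ap_mul, mul_inv_cancel, ap_one]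

lemma ap_inj (g : GL ι F) : Function.Injective (ap g) := fun v w h => by
  rw [← ap_inv_ap g v, h, ap_inv_ap]

lemma gl_ext {g h : GL ι F} (e : ∀ v, ap g v = ap h v) : g = h := by
  refine Units.ext (Matrix.ext fun i j => ?_)
  have := congrFun (e (bs F j)) i
  simpa [ap, Matrix.mulVec_single] using this

/-- membership in the isometry group -/
def Isom (g : GL ι F) : Prop := ∀ v, T (ap g v) = T v

lemma isom_of_mem {g : GL ι F} (h : g ∈ E6univ F) : Isom g := fun v => by
  rw [← cubicT_eq, ← cubicT_eq]; exact h v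

lemma mem_of_isom {g : GL ι F} (h : Isom g) : g ∈ E6univ F := fun v => by
  show cubicT (ap g v) = cubicT v
  rw [cubicT_eq, cubicT_eq]; exact h v

variable [Fintype F]

lemma exists_scalar (h3 : 3 ≤ Fintype.card F) : ∃ s : F, s ≠ 0 ∧ s ≠ 1 := by
  classical
  by_contra h
  push Not at h
  have : (Finset.univ : Finset F) ⊆ {0, 1} := fun s _ => by
    rcases eq_or_ne s 0 with rfl | h0
    · simp
    · simp [h s h0]
  have := Finset.card_le_card this
  rw [Finset.card_univ] at this
  have h2 : ({0, 1} : Finset F).card ≤ 2 := Finset.card_le_two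
  omega

lemma QA_inv (h3 : 3 ≤ Fintype.card F) {g : GL ι F} (hg : Isom g) (v w : ι → F) :
    QA (ap g v) (ap g w) = QA v w := by
  obtain ⟨s, hs0, hs1⟩ := exists_scalar h3
  have key : ∀ c : F, c * (QA (ap g v) (ap g w) - QA v w) + c ^ 2 * (QA (ap g w) (ap g v) - QA w v) = 0 := by
    intro c
    have h := hg (v + c • w)
    rw [show ap g (v + c • w) = ap g v + c • ap g w by simp [ap, Matrix.mulVec_add, Matrix.mulVec_smul]] at h
    simp only [T, TL_add_smul] at h
    have e1 := hg v
    have e2 := hg w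
    simp only [T] at e1 e2
    linear_combination h - e1 - c ^ 3 * e2
  have k1 := key 1
  have k2 := key s
  have : (s - s ^ 2) * (QA (ap g v) (ap g w) - QA v w) = 0 := by linear_combination k2 - s ^ 2 * k1
  rcases mul_eq_zero.1 this with h | h
  · exfalso
    have : s * (1 - s) = 0 := by linear_combination h
    rcases mul_eq_zero.1 this with h | h
    · exact hs0 h
    · exact hs1 (sub_eq_zero.1 h).symm
  · exact sub_eq_zero.1 h

lemma QB_inv (h3 : 3 ≤ Fintype.card F) {g : GL ι F} (hg : Isom g) (u v w : ι → F) :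
    QB (ap g u) (ap g v) (ap g w) = QB u v w := by
  have h := QA_inv h3 hg (u + v) w
  rw [show ap g (u + v) = ap g u + ap g v from Matrix.mulVec_add _ _ _] at h
  simp only [QA, AL_add] at h
  have e1 := QA_inv h3 hg u w
  have e2 := QA_inv h3 hg v w
  simp only [QA] at e1 e2
  linear_combination h - e1 - e2

/-- singular vectors -/
def Sing (v : ι → F) : Prop := ∀ w, QA v w = 0

lemma sing_ap (h3 : 3 ≤ Fintype.card F) {g : GL ι F} (hg : Isom g) {v : ι → F} (hv : Sing v) :
    Sing (ap g v) := fun w => by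
  rw [← ap_ap_inv g w, QA_inv h3 hg]; exact hv _

end CfsgLib.Chev.E6Form
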