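/-
Root elements acting on the 27 coordinates: they preserve the cubic form and satisfy Steinberg's relations.
-/
import Cfsg.Agent.Lib.Chev.E6Form.Cubic
import Cfsg.Agent.Lib.Steinberg.Presented

set_option autoImplicit false
set_option maxRecDepth 100000
set_option linter.unusedSimpArgs false
set_option linter.unusedSectionVars false

namespace CfsgLib.Chev.E6Form

open Cfsg.Lie Matrix CfsgLib.Chev

variable {F : Type*} [Field F]

/-- the entries with a given target -/
noncomputable def into (r : ℕ) (i : ι) : List (ι × ι × ℤ) := (ent r).filter fun e => decide (e.2.1 = i)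

/-- the derivation of a root element -/
noncomputable def dd (r : ℕ) (v : ι → F) (i : ι) : F := ((into r i).map fun e => (e.2.2 : F) * v e.1).sum

/-- the matrix of a root element -/
noncomputable def xM (r : ℕ) (t : F) : Matrix ι ι F :=
  1 + t • ((ent r).map fun e => (e.2.2 : F) • Matrix.single e.2.1 e.1 (1 : F)).sum

lemma xM_apply (r : ℕ) (t : F) (v : ι → F) (i : ι) : (xM r t *ᵥ v) i = v i + t * dd r v i := by
  have key : ∀ L : List (ι × ι × ℤ), (((L.map fun e => (e.2.2 : F) • Matrix.single e.2.1 e.1 (1 : F)).sum) *ᵥ v) i =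
      ((L.filter fun e => decide (e.2.1 = i)).map fun e => (e.2.2 : F) * v e.1).sum := by
    intro L
    induction L with
    | nil => simp
    | cons e L ih =>
      rw [List.map_cons, List.sum_cons, Matrix.add_mulVec, Pi.add_apply, ih, List.filter_cons]
      by_cases he : e.2.1 = i
      · subst he
        simp [Matrix.smul_mulVec, Matrix.mulVec, dotProduct, Matrix.single_apply]
      · simp [he, Matrix.smul_mulVec, Matrix.mulVec, dotProduct, Matrix.single_apply]
  rw [xM, Matrix.add_mulVec, Matrix.one_mulVec, Pi.add_apply, Matrix.smul_mulVec, Pi.smul_apply, key]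
  rfl

/-- bounds, and sources are never targets -/
noncomputable def entOK : Bool := (List.range 72).all fun r => (entN r).all fun e =>
  Nat.ble (e.1 + 1) 27 && Nat.ble (e.2.1 + 1) 27 && (entN r).all fun f => !Nat.beq f.2.1 e.1

theorem ent_check : entOK = true := by decide +kernel

theorem ent_big_check : entT.keys.all (fun k => decide (k < 72)) = true := by decide +kernel

lemma entN_big {r : ℕ} (hr : 72 ≤ r) : entN r = [] := by
  by_contra h
  have := of_decide_eq_true (List.all_eq_true.1 ent_big_check r (mem_keys entT r h))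
  omega

lemma ent_facts {r : ℕ} {e : ℕ × ℕ × ℤ} (he : e ∈ entN r) :
    e.1 < 27 ∧ e.2.1 < 27 ∧ ∀ f ∈ entN r, f.2.1 ≠ e.1 := by
  rcases lt_or_ge r 72 with hr | hr
  · have h := List.all_eq_true.1 (List.all_eq_true.1 ent_check r (List.mem_range.2 hr)) e he
    simp only [Bool.and_eq_true] at h
    refine ⟨Nat.le_of_ble_eq_true h.1.1, Nat.le_of_ble_eq_true h.1.2, fun f hf e' => ?_⟩
    have := List.all_eq_true.1 h.2 f hf
    simp [e'] at this
  · rw [entN_big hr] at he; exact absurd he List.not_mem_nil

theorem cd_check : ((List.range 27).all fun a => (List.range 27).all fun b =>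
    Nat.beq a b || !decide (cd a = cd b)) = true := by decide +kernel

lemma cd_inj {a b : ℕ} (ha : a < 27) (hb : b < 27) (h : cd a = cd b) : a = b := by
  have := List.all_eq_true.1 (List.all_eq_true.1 cd_check a (List.mem_range.2 ha)) b (List.mem_range.2 hb)
  simp only [h, decide_true, Bool.not_true, Bool.or_false] at this
  exact Nat.eq_of_beq_eq_true this

/-- the entries with a given target, by number -/
noncomputable def intoN (r i : ℕ) : List (ℕ × ℕ × ℤ) := (entN r).filter fun e => Nat.beq e.2.1 i

lemma into_cd (r : ℕ) {i : ℕ} (hi : i < 27) :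
    into r (cd i) = (intoN r i).map fun e => (cd e.1, cd e.2.1, e.2.2) := by
  rw [into, ent, List.filter_map, intoN]
  congr 1
  refine List.filter_congr fun e he => ?_
  rw [Bool.eq_iff_iff]
  simp only [Function.comp, decide_eq_true_eq, Nat.beq_eq_true_eq]
  exact ⟨fun h => by rw [cd_inj (ent_facts he).2.1 hi h]; exact Nat.beq_refl _,
    fun h => by rw [Nat.eq_of_beq_eq_true h]⟩

lemma ent_big {r : ℕ} (hr : 72 ≤ r) : ent r = [] := by rw [ent, entN_big hr]; rfl

lemma into_src {r : ℕ} {e : ι × ι × ℤ} (he : e ∈ ent r) : into r e.1 = [] := by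
  obtain ⟨e', he', rfl⟩ := List.mem_map.1 he
  obtain ⟨h1, -, h3⟩ := ent_facts he'
  rw [into_cd r h1, List.map_eq_nil_iff, intoN, List.filter_eq_nil_iff]
  intro f hf h
  exact h3 f hf (Nat.eq_of_beq_eq_true h)

lemma xM_src (r : ℕ) (t : F) (v : ι → F) {e : ι × ι × ℤ} (he : e ∈ ent r) : (xM r t *ᵥ v) e.1 = v e.1 := by
  rw [xM_apply, dd, into_src he]; simp

lemma xM_add (r : ℕ) (t u : F) : xM r t * xM r u = xM r (t + u) := by
  have key : ∀ v : ι → F, (xM r t * xM r u) *ᵥ v = xM r (t + u) *ᵥ v := fun v => by
    funext i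
    rw [← Matrix.mulVec_mulVec, xM_apply, xM_apply, xM_apply]
    have : dd r (xM r u *ᵥ v) i = dd r v i := by
      refine congrArg List.sum (List.map_congr_left fun e he => ?_)
      rw [xM_src r u v (List.mem_of_mem_filter he)]
    rw [this]; ring
  exact Matrix.ext fun i j => by simpa [Matrix.mulVec_single] using congrFun (key (bs F j)) i

lemma xM_zero (r : ℕ) : xM r (0 : F) = 1 := by simp [xM]

/-- a root element -/
noncomputable def xE (r : ℕ) (t : F) : GL ι F :=
  ⟨xM r t, xM r (-t), by rw [xM_add, add_neg_cancel, xM_zero], by rw [xM_add, neg_add_cancel, xM_zero]⟩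

lemma xE_apply (r : ℕ) (t : F) (v : ι → F) (i : ι) : ap (xE r t) v i = v i + t * dd r v i := xM_apply r t v i

lemma xE_add (r : ℕ) (t u : F) : xE r t * xE r u = xE r (t + u) := Units.ext (xM_add r t u)

lemma xE_zero (r : ℕ) : xE r (0 : F) = 1 := Units.ext (xM_zero r)

/-! ### invariance of the form -/

/-- code of three numbers in increasing order -/
def sort3 (a b c : ℕ) : ℕ :=
  729 * min a (min b c) + 27 * max (min a b) (min (max a b) c) + max a (max b c)

/-- value of a coded monomial -/
def kval (v : ι → F) (k : ℕ) : F := v (cd (k / 729)) * v (cd (k / 27 % 27)) * v (cd (k % 27))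

lemma kval_sort3 (v : ι → F) {a b c : ℕ} (ha : a < 27) (hb : b < 27) (hc : c < 27) :
    kval v (sort3 a b c) = v (cd a) * v (cd b) * v (cd c) := by
  have key : ∀ x y z : ℕ, x < 27 → y < 27 → z < 27 →
      kval v (729 * x + 27 * y + z) = v (cd x) * v (cd y) * v (cd z) := by
    intro x y z _ hy hz
    rw [kval, show (729 * x + 27 * y + z) / 729 = x by omega,
      show (729 * x + 27 * y + z) / 27 % 27 = y by omega, show (729 * x + 27 * y + z) % 27 = z by omega]
  rw [sort3, key _ _ _ (by omega) (by omega) (by omega)]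
  rcases le_total a b with h1 | h1 <;> rcases le_total b c with h2 | h2 <;> rcases le_total a c with h3 | h3 <;>
    first
    | (rw [show min a (min b c) = a by omega, show max (min a b) (min (max a b) c) = b by omega,
        show max a (max b c) = c by omega] <;> ring; done)
    | (rw [show min a (min b c) = a by omega, show max (min a b) (min (max a b) c) = c by omega,
        show max a (max b c) = b by omega] <;> ring; done)
    | (rw [show min a (min b c) = b by omega, show max (min a b) (min (max a b) c) = a by omega,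
        show max a (max b c) = c by omega] <;> ring; done)
    | (rw [show min a (min b c) = b by omega, show max (min a b) (min (max a b) c) = c by omega,
        show max a (max b c) = a by omega] <;> ring; done)
    | (rw [show min a (min b c) = c by omega, show max (min a b) (min (max a b) c) = a by omega,
        show max a (max b c) = b by omega] <;> ring; done)
    | (rw [show min a (min b c) = c by omega, show max (min a b) (min (max a b) c) = b by omega,
        show max a (max b c) = a by omega] <;> ring; done)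

/-- the variation of a monomial -/
noncomputable def varM (r : ℕ) (m : ℕ × ℕ × ℕ × ℤ) : List (ℕ × ℤ) :=
  ((intoN r m.1).map fun e => (sort3 e.1 m.2.1 m.2.2.1, m.2.2.2 * e.2.2)) ++
  ((intoN r m.2.1).map fun e => (sort3 m.1 e.1 m.2.2.1, m.2.2.2 * e.2.2)) ++
  ((intoN r m.2.2.1).map fun e => (sort3 m.1 m.2.1 e.1, m.2.2.2 * e.2.2))

/-- at most one variable of a monomial moves -/
noncomputable def oneOK (r : ℕ) (m : ℕ × ℕ × ℕ × ℤ) : Bool :=
  Nat.ble (m.1 + 1) 27 && Nat.ble (m.2.1 + 1) 27 && Nat.ble (m.2.2.1 + 1) 27 &&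
    ((intoN r m.1).isEmpty && ((intoN r m.2.1).isEmpty || (intoN r m.2.2.1).isEmpty) ||
      ((intoN r m.2.1).isEmpty && (intoN r m.2.2.1).isEmpty))

/-- root elements preserve the form -/
noncomputable def invOK (r : ℕ) : Bool := monN.all (oneOK r) && seq' (monN.flatMap (varM r)) []

theorem inv_check : (List.range 72).all invOK = true := by decide +kernel

lemma sval_varM (r : ℕ) (t : F) (v : ι → F) : ∀ L : List (ℕ × ℕ × ℕ × ℤ), L.all (oneOK r) = true →
    TL (L.map fun m => (cd m.1, cd m.2.1, cd m.2.2.1, m.2.2.2)) (ap (xE r t) v) =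
      TL (L.map fun m => (cd m.1, cd m.2.1, cd m.2.2.1, m.2.2.2)) v + t * sval (kval v) (L.flatMap (varM r)) := by
  intro L
  induction L with
  | nil => simp [TL, sval]
  | cons m L ih =>
    intro h
    rw [List.all_cons, Bool.and_eq_true] at h
    obtain ⟨hm, hL⟩ := h
    have h' := ih hL
    simp only [TL] at h' ⊢
    simp only [List.map_cons, List.sum_cons, List.flatMap_cons, sval_append, h']
    simp only [oneOK, Bool.and_eq_true, Bool.or_eq_true] at hm
    obtain ⟨⟨⟨b1, b2⟩, b3⟩, hone⟩ := hm
    have b1 := Nat.le_of_ble_eq_true b1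
    have b2 := Nat.le_of_ble_eq_true b2
    have b3 := Nat.le_of_ble_eq_true b3
    have hd : ∀ {i : ℕ}, i < 27 → dd r v (cd i) = ((intoN r i).map fun e => (e.2.2 : F) * v (cd e.1)).sum := by
      intro i hi
      rw [dd, into_cd r hi, List.map_map]
      rfl
    have hs : ∀ (i : ℕ) (f : ℕ → ℕ) (x : F),
        (∀ e ∈ intoN r i, kval v (f e.1) = x * v (cd e.1)) →
        sval (kval v) ((intoN r i).map fun e => (f e.1, m.2.2.2 * e.2.2)) =
          (m.2.2.2 : F) * x * ((intoN r i).map fun e => (e.2.2 : F) * v (cd e.1)).sum := by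
      intro i f x hf
      revert hf
      induction intoN r i with
      | nil => intro; simp [sval]
      | cons e E ihE =>
        intro hf
        rw [List.map_cons, sval_cons, ihE (fun e' h' => hf e' (List.mem_cons_of_mem _ h')), List.map_cons,
          List.sum_cons, hf e List.mem_cons_self, zsmul_eq_mul]
        push_cast; ring
    rw [varM, sval_append, sval_append,
      hs m.1 (fun e => sort3 e m.2.1 m.2.2.1) (v (cd m.2.1) * v (cd m.2.2.1)) (fun e he => by
        rw [kval_sort3 v (ent_facts (List.mem_of_mem_filter he)).1 b2 b3]; ring),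
      hs m.2.1 (fun e => sort3 m.1 e m.2.2.1) (v (cd m.1) * v (cd m.2.2.1)) (fun e he => by
        rw [kval_sort3 v b1 (ent_facts (List.mem_of_mem_filter he)).1 b3]; ring),
      hs m.2.2.1 (fun e => sort3 m.1 m.2.1 e) (v (cd m.1) * v (cd m.2.1)) (fun e he => by
        rw [kval_sort3 v b1 b2 (ent_facts (List.mem_of_mem_filter he)).1]),
      ← hd b1, ← hd b2, ← hd b3, xE_apply, xE_apply, xE_apply]
    have z : ∀ {i : ℕ}, i < 27 → (intoN r i).isEmpty = true → dd r v (cd i) = 0 := fun hi he => by
      rw [hd hi, List.isEmpty_iff.1 he]; rfl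
    rcases hone with ⟨e1, e2 | e3⟩ | ⟨e2, e3⟩
    · rw [z b1 e1, z b2 e2]; ring
    · rw [z b1 e1, z b3 e3]; ring
    · rw [z b2 e2, z b3 e3]; ring

lemma isom_xE (r : ℕ) (t : F) : Isom (xE r t) := fun v => by
  rcases lt_or_ge r 72 with hr | hr
  · have h := List.all_eq_true.1 inv_check r (List.mem_range.2 hr)
    rw [invOK, Bool.and_eq_true] at h
    have h2 := sval_eq_of_seq (kval v) h.2
    rw [sval_nil] at h2
    show TL (monN.map fun m => (cd m.1, cd m.2.1, cd m.2.2.1, m.2.2.2)) _ = _
    rw [sval_varM r t v monN h.1, h2, mul_zero, add_zero]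
    rfl
  · have : ap (xE r t) v = v := funext fun i => by rw [xE_apply, dd, into, ent_big hr]; simp
    rw [this]

/-! ### Steinberg's relations -/

/-- the value of a coded matrix unit -/
def uval (k : ℕ) : Matrix ι ι F := Matrix.single (cd (k % 27)) (cd (k / 27)) 1

/-- the matrix of entries -/
def nM (E : List (ℕ × ℕ × ℤ)) : Matrix ι ι F :=
  (E.map fun e => (e.2.2 : F) • Matrix.single (cd e.2.1) (cd e.1) (1 : F)).sum

lemma xM_eq (r : ℕ) (t : F) : xM r t = 1 + t • nM (entN r) := by
  rw [xM, nM, ent, List.map_map]; rfl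

/-- entries of a composition: first `E` then `E'` -/
def comp (E E' : List (ℕ × ℕ × ℤ)) : List (ℕ × ℤ) :=
  E.flatMap fun e => (E'.filter fun f => Nat.beq f.1 e.2.1).map fun f => (27 * e.1 + f.2.1, e.2.2 * f.2.2)

/-- entries as coded units -/
def units' (c : ℤ) (E : List (ℕ × ℕ × ℤ)) : List (ℕ × ℤ) := E.map fun e => (27 * e.1 + e.2.1, c * e.2.2)

lemma uval_code {a b : ℕ} (hb : b < 27) : (uval (27 * a + b) : Matrix ι ι F) = Matrix.single (cd b) (cd a) 1 := by
  rw [uval, show (27 * a + b) % 27 = b by omega, show (27 * a + b) / 27 = a by omega]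

lemma sval_units (c : ℤ) {E : List (ℕ × ℕ × ℤ)} (hE : ∀ e ∈ E, e.2.1 < 27) :
    sval (uval (F := F)) (units' c E) = (c : F) • nM E := by
  induction E with
  | nil => simp [units', nM, sval]
  | cons e E ih =>
    rw [units', List.map_cons, sval_cons, show E.map _ = units' c E from rfl,
      ih fun e' h => hE e' (List.mem_cons_of_mem _ h)]
    simp only [nM, List.map_cons, List.sum_cons, smul_add, uval_code (hE e List.mem_cons_self), smul_smul,
      ← Int.cast_smul_eq_zsmul F, Int.cast_mul]

lemma sval_comp {E E' : List (ℕ × ℕ × ℤ)} (hE : ∀ e ∈ E, e.2.1 < 27) (hE' : ∀ e ∈ E', e.1 < 27 ∧ e.2.1 < 27) :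
    sval (uval (F := F)) (comp E E') = nM E' * nM E := by
  induction E with
  | nil => simp [comp, nM, sval]
  | cons e E ih =>
    rw [comp, List.flatMap_cons, sval_append, show E.flatMap _ = comp E E' from rfl,
      ih fun e' h => hE e' (List.mem_cons_of_mem _ h), show nM (F := F) (e :: E) =
        (e.2.2 : F) • Matrix.single (cd e.2.1) (cd e.1) (1 : F) + nM E from rfl, mul_add]
    congr 1
    clear ih
    induction E' with
    | nil => simp [nM, sval]
    | cons f E' ih' =>
      rw [show nM (F := F) (f :: E') = (f.2.2 : F) • Matrix.single (cd f.2.1) (cd f.1) (1 : F) + nM E' from rfl,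
        add_mul, ← ih' fun e' h => hE' e' (List.mem_cons_of_mem _ h), List.filter_cons]
      obtain ⟨hf1, hf2⟩ := hE' f List.mem_cons_self
      by_cases hfe : Nat.beq f.1 e.2.1 = true
      · rw [if_pos hfe, List.map_cons, sval_cons, uval_code hf2, Nat.eq_of_beq_eq_true hfe,
          Matrix.smul_mul, Matrix.mul_smul, Matrix.single_mul_single_same, one_mul, smul_smul,
          ← Int.cast_smul_eq_zsmul F, Int.cast_mul, mul_comm (e.2.2 : F)]
      · rw [if_neg hfe]
        have hne : cd f.1 ≠ cd e.2.1 := fun h => hfe (by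
          rw [cd_inj hf1 (hE e List.mem_cons_self) h, Nat.beq_refl])
        rw [Matrix.smul_mul, Matrix.mul_smul, Matrix.single_mul_single_of_ne _ _ _ _ hne, smul_zero, smul_zero,
          zero_add]

lemma sval_comp_ent (r s : ℕ) : sval (uval (F := F)) (comp (entN r) (entN s)) = nM (entN s) * nM (entN r) :=
  sval_comp (fun _ h => (ent_facts h).2.1) fun _ h => ⟨(ent_facts h).1, (ent_facts h).2.1⟩

/-- the check of the commutator formula for one pair -/
noncomputable def commPairChk (R S : List (ℕ × ℕ × ℤ)) : List (ℕ × ℤ × ℕ × ℕ) → Bool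
  | [] => seq' (comp R S) (comp S R)
  | [(k, c, i, j)] => Nat.beq i 1 && Nat.beq j 1 && Nat.ble (k + 1) 72 &&
      (comp (entN k) R).isEmpty && (comp (entN k) S).isEmpty &&
      seq' (comp R S ++ units' c (entN k)) (comp S R)
  | _ => false

/-- the check of the commutator formula for one root -/
noncomputable def commChk (r : ℕ) : Bool :=
  (List.range 72).all fun s => Nat.beq s r || Nat.beq s (auxE6.neg r) ||
    commPairChk (entN r) (entN s) (auxE6.terms r s)

theorem comm_check : ((List.range 72).all commChk) = true := by decide +kernel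

lemma comm_E {r s : ℕ} (hr : r < 72) (hs : s < 72) (hsr : s ≠ r) (hsn : s ≠ chevE6.neg r) (t u : F) :
    xE s u * xE r t = xE r t * xE s u * ((chevE6.commWord F r s t u).map fun p => xE p.1 p.2).prod ∧
      ∀ p ∈ chevE6.commWord F r s t u, p.1 < 72 := by
  have h2 := List.all_eq_true.1 (List.all_eq_true.1 comm_check r (List.mem_range.2 hr)) s (List.mem_range.2 hs)
  have e1 : Nat.beq s r = false := Bool.eq_false_iff.2 fun h => hsr (Nat.eq_of_beq_eq_true h)
  have e2 : Nat.beq s (auxE6.neg r) = false := Bool.eq_false_iff.2 fun h =>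
    hsn (by rw [stdE6.good.neg_eq r hr]; exact Nat.eq_of_beq_eq_true h)
  rw [e1, e2, Bool.false_or, Bool.false_or] at h2
  rw [ChevalleyDatum.commWord, commTerms_eq stdE6.good hr hs]
  match auxE6.terms r s, h2 with
  | [], h2 =>
    refine ⟨Units.ext ?_, fun p hp => absurd hp List.not_mem_nil⟩
    have h := sval_eq_of_seq (uval (F := F)) h2
    rw [sval_comp_ent, sval_comp_ent] at h
    simp only [List.map_nil, List.prod_nil, mul_one, Units.val_mul]
    show xM s u * xM r t = xM r t * xM s u
    simp only [xM_eq, mul_add, add_mul, one_mul, mul_one, smul_mul_assoc, mul_smul_comm, h]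
    module
  | [(k, c, i, j)], h2 =>
    simp only [commPairChk, Bool.and_eq_true] at h2
    obtain ⟨⟨⟨⟨⟨hi, hj⟩, hk⟩, h3⟩, h4⟩, h5⟩ := h2
    obtain rfl := Nat.eq_of_beq_eq_true hi
    obtain rfl := Nat.eq_of_beq_eq_true hj
    refine ⟨Units.ext ?_, fun p hp => ?_⟩
    · have hz1 := congrArg (sval (uval (F := F))) (List.isEmpty_iff.1 h3)
      have hz2 := congrArg (sval (uval (F := F))) (List.isEmpty_iff.1 h4)
      rw [sval_comp_ent, sval_nil] at hz1 hz2
      have h := sval_eq_of_seq (uval (F := F)) h5
      rw [sval_append, sval_comp_ent, sval_comp_ent, sval_units c fun _ h => (ent_facts h).2.1] at h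
      simp only [List.map_cons, List.map_nil, List.prod_cons, List.prod_nil, mul_one, pow_one, Units.val_mul]
      show xM s u * xM r t = xM r t * xM s u * xM k ((c : F) * -t * u)
      simp only [xM_eq, mul_add, add_mul, one_mul, mul_one, smul_mul_assoc, mul_smul_comm, mul_assoc, hz1, hz2,
        mul_zero, smul_zero, add_zero]
      simp only [← h, smul_add]
      module
    · obtain rfl := List.mem_singleton.1 hp
      exact Nat.le_of_ble_eq_true hk

/-- the generators' values -/
noncomputable def vF (p : Fin chevE6.nroots × F) : GL ι F := xE p.1 p.2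

lemma lift_stX {r : ℕ} (hr : r < 72) (t : F) : FreeGroup.lift (vF (F := F)) (chevE6.stX r t) = xE r t := by
  unfold ChevalleyDatum.stX
  rw [dif_pos (show r < chevE6.nroots from hr)]
  simp [vF]

lemma rels_E : ∀ y ∈ chevE6.steinbergRelsAB F, FreeGroup.lift (vF (F := F)) y = 1 := by
  rintro y (⟨r, t₁, t₂, hr, rfl⟩ | ⟨r, s, t, u, hr, hs, hsr, hsn, rfl⟩)
  · simp [lift_stX (show r < 72 from hr), xE_add]
  · obtain ⟨he, hk⟩ := comm_E (show r < 72 from hr) (show s < 72 from hs) hsr hsn t u
    have hw : FreeGroup.lift (vF (F := F)) (chevE6.stWord (chevE6.commWord F r s t u)) =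
        ((chevE6.commWord F r s t u).map fun p => xE p.1 p.2).prod := by
      rw [ChevalleyDatum.stWord, map_list_prod, List.map_map]
      exact congrArg List.prod (List.map_congr_left fun p hp => lift_stX (hk p hp) p.2)
    rw [map_mul, map_mul, map_mul, map_mul, map_inv, map_inv, map_inv, lift_stX (show r < 72 from hr),
      lift_stX (show s < 72 from hs), hw, mul_inv_eq_one, mul_assoc, he]
    group

/-- the homomorphism from the cover -/
noncomputable def coverE : chevE6.SteinbergCover F →* GL ι F :=
  PresentedGroup.toGroup (f := vF (F := F)) rels_E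

/-- the group generated by the root elements -/
def EG (F : Type*) [Field F] : Subgroup (GL ι F) :=
  Subgroup.closure {g | ∃ (r : ℕ) (t : F), r < 72 ∧ g = xE r t}

lemma xE_mem (r : ℕ) (hr : r < 72) (t : F) : xE r t ∈ EG F := Subgroup.subset_closure ⟨r, t, hr, rfl⟩

lemma EG_isom {g : GL ι F} (hg : g ∈ EG F) : g ∈ E6univ F := by
  refine (Subgroup.closure_le _).2 ?_ hg
  rintro _ ⟨r, t, -, rfl⟩
  exact mem_of_isom (isom_xE r t)

lemma range_coverE : (coverE (F := F)).range = EG F := by
  rw [MonoidHom.range_eq_map, ← PresentedGroup.closure_range_of, MonoidHom.map_closure]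
  congr 1
  ext y
  constructor
  · rintro ⟨_, ⟨⟨r, t⟩, rfl⟩, rfl⟩
    refine ⟨r, t, r.2, ?_⟩
    show coverE _ = _
    rw [coverE, PresentedGroup.toGroup.of]
    rfl
  · rintro ⟨r, t, hr, rfl⟩
    refine ⟨_, ⟨(⟨r, hr⟩, t), rfl⟩, ?_⟩
    rw [coverE, PresentedGroup.toGroup.of]
    rfl

end CfsgLib.Chev.E6Form
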