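/-
An isometry of the cubic form becomes diagonal after multiplication by root elements.
-/
import Cfsg.Agent.Lib.Chev.E6Form.Rep

set_option autoImplicit false
set_option maxRecDepth 100000
set_option linter.unusedSimpArgs false
set_option linter.unusedSectionVars false

namespace CfsgLib.Chev.E6Form

open Cfsg.Lie Matrix CfsgLib.Chev

variable {F : Type*} [Field F]

theorem cd_surj_check : (idx.all fun x => (List.range 27).any fun i => decide (cd i = x)) = true := by decide +kernel

lemma cd_surj (x : ι) : ∃ i < 27, cd i = x := by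
  obtain ⟨i, hi, h⟩ := List.any_eq_true.1 (List.all_eq_true.1 cd_surj_check x (mem_idx x))
  exact ⟨i, List.mem_range.1 hi, of_decide_eq_true h⟩

lemma vec_ext {v w : ι → F} (h : ∀ i < 27, v (cd i) = w (cd i)) : v = w := funext fun x => by
  obtain ⟨i, hi, rfl⟩ := cd_surj x
  exact h i hi

lemma bs_cd {i j : ℕ} (hi : i < 27) (hj : j < 27) : bs F (cd j) (cd i) = if i = j then 1 else 0 := by
  by_cases h : i = j
  · subst h; simp [bs]
  · rw [if_neg h, bs, Pi.single_eq_of_ne fun e => h (cd_inj hi hj e)]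

lemma nbeq_eq (x y : ℕ) : Nat.beq x y = decide (x = y) := by
  rw [Bool.eq_iff_iff, decide_eq_true_eq]
  exact ⟨Nat.eq_of_beq_eq_true, fun h => h ▸ Nat.beq_refl _⟩

/-! ### the polarisations at basis vectors -/

/-- terms of the polarisation at a basis vector in the first variable -/
def linA (a : ℕ) : List (ℕ × ℕ × ℤ) :=
  monN.flatMap fun m =>
    (cond (Nat.beq m.1 a) [(m.2.1, m.2.2.1, m.2.2.2), (m.2.2.1, m.2.1, m.2.2.2)] []) ++
    (cond (Nat.beq m.2.1 a) [(m.1, m.2.2.1, m.2.2.2), (m.2.2.1, m.1, m.2.2.2)] []) ++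
    (cond (Nat.beq m.2.2.1 a) [(m.1, m.2.1, m.2.2.2), (m.2.1, m.1, m.2.2.2)] [])

/-- terms of the quadratic part at a basis vector in the second variable -/
def pairsA (c : ℕ) : List (ℕ × ℕ × ℤ) :=
  monN.flatMap fun m =>
    (cond (Nat.beq m.1 c) [(m.2.1, m.2.2.1, m.2.2.2)] []) ++
    (cond (Nat.beq m.2.1 c) [(m.1, m.2.2.1, m.2.2.2)] []) ++
    (cond (Nat.beq m.2.2.1 c) [(m.1, m.2.1, m.2.2.2)] [])

/-- bilinear evaluation of a list of terms -/
def bev (L : List (ℕ × ℕ × ℤ)) (v w : ι → F) : F :=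
  (L.map fun p => (p.2.2 : F) * (v (cd p.1) * w (cd p.2.1))).sum

lemma bev_append (L L' : List (ℕ × ℕ × ℤ)) (v w : ι → F) : bev (L ++ L') v w = bev L v w + bev L' v w := by
  simp [bev]

theorem monN_check : (monN.all fun m => Nat.ble (m.1 + 1) 27 && Nat.ble (m.2.1 + 1) 27 &&
    Nat.ble (m.2.2.1 + 1) 27 && !Nat.beq m.1 m.2.1 && !Nat.beq m.1 m.2.2.1 && !Nat.beq m.2.1 m.2.2.1) = true := by
  decide +kernel

lemma monN_lt {m : ℕ × ℕ × ℕ × ℤ} (hm : m ∈ monN) : m.1 < 27 ∧ m.2.1 < 27 ∧ m.2.2.1 < 27 := by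
  have h := List.all_eq_true.1 monN_check m hm
  simp only [Bool.and_eq_true] at h
  exact ⟨Nat.le_of_ble_eq_true h.1.1.1.1.1, Nat.le_of_ble_eq_true h.1.1.1.1.2, Nat.le_of_ble_eq_true h.1.1.1.2⟩

lemma monN_ne {m : ℕ × ℕ × ℕ × ℤ} (hm : m ∈ monN) : m.1 ≠ m.2.1 ∧ m.1 ≠ m.2.2.1 ∧ m.2.1 ≠ m.2.2.1 := by
  have h := List.all_eq_true.1 monN_check m hm
  simp only [Bool.and_eq_true, Bool.not_eq_true', nbeq_eq, decide_eq_false_iff_not] at h
  exact ⟨h.1.1.2, h.1.2, h.2⟩

lemma QB_bs {a : ℕ} (ha : a < 27) (v w : ι → F) : QB (bs F (cd a)) v w = bev (linA a) v w := by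
  show BL (monN.map fun m => (cd m.1, cd m.2.1, cd m.2.2.1, m.2.2.2)) _ _ _ = _
  rw [linA]
  have : ∀ L : List (ℕ × ℕ × ℕ × ℤ), (∀ m ∈ L, m ∈ monN) →
      BL (L.map fun m => (cd m.1, cd m.2.1, cd m.2.2.1, m.2.2.2)) (bs F (cd a)) v w = bev (L.flatMap fun m =>
        (cond (Nat.beq m.1 a) [(m.2.1, m.2.2.1, m.2.2.2), (m.2.2.1, m.2.1, m.2.2.2)] []) ++
        (cond (Nat.beq m.2.1 a) [(m.1, m.2.2.1, m.2.2.2), (m.2.2.1, m.1, m.2.2.2)] []) ++
        (cond (Nat.beq m.2.2.1 a) [(m.1, m.2.1, m.2.2.2), (m.2.1, m.1, m.2.2.2)] [])) v w := by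
    intro L hL
    induction L with
    | nil => simp [BL, bev]
    | cons m L ih =>
      obtain ⟨b1, b2, b3⟩ := monN_lt (hL m List.mem_cons_self)
      have h := ih fun x hx => hL x (List.mem_cons_of_mem _ hx)
      rw [List.flatMap_cons, bev_append, bev_append, bev_append, ← h]
      simp only [BL, List.map_cons, List.sum_cons]
      congr 1
      rw [bs_cd b1 ha, bs_cd b2 ha, bs_cd b3 ha]
      by_cases e1 : m.1 = a <;> by_cases e2 : m.2.1 = a <;> by_cases e3 : m.2.2.1 = a <;>
        simp [bev, nbeq_eq, e1, e2, e3] <;> ring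
  exact this monN fun _ h => h

lemma QA_bs {c : ℕ} (hc : c < 27) (v : ι → F) : QA v (bs F (cd c)) = bev (pairsA c) v v := by
  show AL (monN.map fun m => (cd m.1, cd m.2.1, cd m.2.2.1, m.2.2.2)) _ _ = _
  rw [pairsA]
  have : ∀ L : List (ℕ × ℕ × ℕ × ℤ), (∀ m ∈ L, m ∈ monN) →
      AL (L.map fun m => (cd m.1, cd m.2.1, cd m.2.2.1, m.2.2.2)) v (bs F (cd c)) = bev (L.flatMap fun m =>
        (cond (Nat.beq m.1 c) [(m.2.1, m.2.2.1, m.2.2.2)] []) ++
        (cond (Nat.beq m.2.1 c) [(m.1, m.2.2.1, m.2.2.2)] []) ++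
        (cond (Nat.beq m.2.2.1 c) [(m.1, m.2.1, m.2.2.2)] [])) v v := by
    intro L hL
    induction L with
    | nil => simp [AL, bev]
    | cons m L ih =>
      obtain ⟨b1, b2, b3⟩ := monN_lt (hL m List.mem_cons_self)
      have h := ih fun x hx => hL x (List.mem_cons_of_mem _ hx)
      rw [List.flatMap_cons, bev_append, bev_append, bev_append, ← h]
      simp only [AL, List.map_cons, List.sum_cons]
      congr 1
      rw [bs_cd b1 hc, bs_cd b2 hc, bs_cd b3 hc]
      by_cases e1 : m.1 = c <;> by_cases e2 : m.2.1 = c <;> by_cases e3 : m.2.2.1 = c <;>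
        simp [bev, nbeq_eq, e1, e2, e3] <;> ring
  exact this monN fun _ h => h

/-- a sum only sees the non-vanishing terms -/
lemma bev_filter (L : List (ℕ × ℕ × ℤ)) (q : ℕ × ℕ × ℤ → Bool) (v w : ι → F)
    (h : ∀ p ∈ L, q p = false → v (cd p.1) * w (cd p.2.1) = 0) : bev L v w = bev (L.filter q) v w := by
  induction L with
  | nil => rfl
  | cons p L ih =>
    have h' := ih fun x hx => h x (List.mem_cons_of_mem _ hx)
    cases hq : q p with
    | false =>
      rw [List.filter_cons_of_neg (by simp [hq]), ← h']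
      simp [bev, h p List.mem_cons_self hq]
    | true =>
      rw [List.filter_cons_of_pos hq]
      simp only [bev, List.map_cons, List.sum_cons] at h' ⊢
      rw [h']

/-! ### levels -/

/-- occurs in a common monomial -/
def opp (a j : ℕ) : Bool := (linA a).any fun p => Nat.beq p.1 j

/-- the level of `j` with respect to `a` -/
def lev (a j : ℕ) : ℕ := cond (Nat.beq a j) 2 (cond (opp a j) 0 1)

/-- the checks independent of the step -/
def baseOK : Bool := (List.range 27).all fun a =>
  !opp a a &&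
    (List.range 27).all fun k => !opp a k || (List.range 27).any fun c =>
      match (linA a).filter fun p => Nat.beq p.2.1 c with
      | [(x, _, s)] => Nat.beq x k && (s == 1 || s == -1)
      | _ => false

theorem base_check : baseOK = true := by decide +kernel

lemma base_facts {a : ℕ} (ha : a < 27) : opp a a = false ∧
    ∀ k < 27, opp a k = true → ∃ c < 27, ∃ y : ℕ, ∃ s : ℤ, (s = 1 ∨ s = -1) ∧
      (linA a).filter (fun p => Nat.beq p.2.1 c) = [(k, y, s)] := by
  have h := List.all_eq_true.1 base_check a (List.mem_range.2 ha)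
  simp only [Bool.and_eq_true, Bool.not_eq_true'] at h
  obtain ⟨h2, h3⟩ := h
  refine ⟨h2, fun k hk hok => ?_⟩
  · have h4 := List.all_eq_true.1 h3 k (List.mem_range.2 hk)
    rw [hok, Bool.not_true, Bool.false_or] at h4
    obtain ⟨c, hc, h5⟩ := List.any_eq_true.1 h4
    refine ⟨c, List.mem_range.1 hc, ?_⟩
    split at h5
    · rename_i x y s heq
      simp only [Bool.and_eq_true, Bool.or_eq_true, beq_iff_eq] at h5
      obtain ⟨hx, hs⟩ := h5
      exact ⟨y, s, hs, by rw [heq, Nat.eq_of_beq_eq_true hx]⟩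
    · exact absurd h5 Bool.false_ne_true

/-- vectors supported in a set -/
def Supp (P : ℕ → Bool) (v : ι → F) : Prop := ∀ i < 27, P i = false → v (cd i) = 0

/-- an invariant coordinate subspace -/
def Inv (g : GL ι F) (P : ℕ → Bool) : Prop := ∀ v, Supp P v → Supp P (ap g v)

lemma ge_one_iff {a : ℕ} (ha : a < 27) (v : ι → F) :
    Supp (fun i => Nat.ble 1 (lev a i)) v ↔ ∀ w, QB (bs F (cd a)) v w = 0 := by
  constructor
  · intro hv w
    rw [QB_bs ha]
    refine List.sum_eq_zero fun x hx => ?_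
    obtain ⟨p, hp, rfl⟩ := List.mem_map.1 hx
    by_cases hp27 : p.1 < 27
    · have ho : opp a p.1 = true := List.any_eq_true.2 ⟨p, hp, Nat.beq_refl _⟩
      have : v (cd p.1) = 0 := hv p.1 hp27 (by
        have hne : Nat.beq a p.1 = false := Bool.eq_false_iff.2 fun e => by
          rw [← Nat.eq_of_beq_eq_true e, (base_facts ha).1] at ho
          exact Bool.false_ne_true ho
        show Nat.ble 1 (lev a p.1) = false
        rw [lev, hne, ho]; rfl)
      rw [this]; ring
    · exfalso
      refine hp27 ?_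
      obtain ⟨m, hm, hpm⟩ := List.mem_flatMap.1 hp
      obtain ⟨b1, b2, b3⟩ := monN_lt hm
      rcases List.mem_append.1 hpm with h | h
      · rcases List.mem_append.1 h with h | h <;>
        · rcases hb : Nat.beq _ a <;> rw [hb] at h <;> simp at h <;> rcases h with rfl | rfl <;> assumption
      · rcases hb : Nat.beq _ a <;> rw [hb] at h <;> simp at h <;> rcases h with rfl | rfl <;> assumption
  · intro hv k hk hP
    have hok : opp a k = true := by
      cases h1 : opp a k
      · exfalso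
        cases h2 : Nat.beq a k <;> simp [lev, h1, h2] at hP
      · rfl
    obtain ⟨c, hc, y, s, hs, hl⟩ := (base_facts ha).2 k hk hok
    have h := hv (bs F (cd c))
    rw [QB_bs ha] at h
    have hy : y = c := by
      have : (k, y, s) ∈ (linA a).filter fun p => Nat.beq p.2.1 c := by rw [hl]; exact List.mem_cons_self
      exact Nat.eq_of_beq_eq_true (List.mem_filter.1 this).2
    rw [bev_filter (linA a) (fun p => Nat.beq p.2.1 c) v _ (fun p hp hq => by
      obtain ⟨m, hm, hpm⟩ := List.mem_flatMap.1 hp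
      obtain ⟨b1, b2, b3⟩ := monN_lt hm
      have hlt : p.2.1 < 27 := by
        rcases List.mem_append.1 hpm with h | h
        · rcases List.mem_append.1 h with h | h <;>
          · rcases hb : Nat.beq _ a <;> rw [hb] at h <;> simp at h <;> rcases h with rfl | rfl <;> assumption
        · rcases hb : Nat.beq _ a <;> rw [hb] at h <;> simp at h <;> rcases h with rfl | rfl <;> assumption
      rw [bs_cd hlt hc, if_neg fun e => by rw [e, Nat.beq_refl] at hq; exact Bool.noConfusion hq, mul_zero]),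
      hl] at h
    subst hy
    rcases hs with rfl | rfl <;> simpa [bev, bs_cd hc hc] using h

variable [Fintype F]

lemma sing_bs (t : ℕ) (ht : t < 27) : Sing (bs F (cd t)) := fun w => by
  show AL (monN.map fun m => (cd m.1, cd m.2.1, cd m.2.2.1, m.2.2.2)) _ _ = _
  refine List.sum_eq_zero fun x hx => ?_
  simp only [List.map_map, List.mem_map] at hx
  obtain ⟨m, hm, rfl⟩ := hx
  obtain ⟨b1, b2, b3⟩ := monN_lt hm
  obtain ⟨n1, n2, n3⟩ := monN_ne hm
  simp only [Function.comp, bs_cd b1 ht, bs_cd b2 ht, bs_cd b3 ht]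
  by_cases e1 : m.1 = t <;> by_cases e2 : m.2.1 = t <;> by_cases e3 : m.2.2.1 = t <;>
    simp [e1, e2, e3] <;> first | (exact absurd (e1.trans e2.symm) n1) | (exact absurd (e1.trans e3.symm) n2) |
      (exact absurd (e2.trans e3.symm) n3)

/-- fixing the first lines -/
def FixLines (g : GL ι F) (k : ℕ) : Prop := ∀ a < k, ∃ c : F, ap g (bs F (cd a)) = c • bs F (cd a)

lemma ap_smul (g : GL ι F) (c : F) (v : ι → F) : ap g (c • v) = c • ap g v := Matrix.mulVec_smul _ _ _

lemma inv_level (h3 : 3 ≤ Fintype.card F) {g : GL ι F} (hg : Isom g) {a : ℕ} (ha : a < 27) {c : F}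
    (hga : ap g (bs F (cd a)) = c • bs F (cd a)) (n : ℕ) : Inv g fun i => Nat.ble n (lev a i) := by
  intro v hv
  have hc : c ≠ 0 := fun e => by
    have h0 : ap g (bs F (cd a)) = ap g 0 := by rw [hga, e, zero_smul, ap, Matrix.mulVec_zero]
    simpa [bs] using congrFun (ap_inj g h0) (cd a)
  rcases n with _ | _ | n
  · intro i _ h
    exact absurd (Nat.ble_eq_true_of_le (Nat.zero_le _)) (Bool.eq_false_iff.1 h)
  · refine (ge_one_iff ha _).2 fun w => ?_
    have h1 : QB (c • bs F (cd a)) (ap g v) w = 0 := by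
      rw [← hga, ← ap_ap_inv g w, QB_inv h3 hg]
      exact (ge_one_iff ha v).1 hv _
    rw [QB, BL_smul] at h1
    exact (mul_eq_zero.1 h1).resolve_left hc
  · have hv' : v = v (cd a) • bs F (cd a) := vec_ext fun i hi => by
      rw [Pi.smul_apply, bs_cd hi ha, smul_eq_mul]
      by_cases e : i = a
      · subst e; simp
      · rw [if_neg e, mul_zero]
        refine hv i hi ?_
        have : Nat.beq a i = false := Bool.eq_false_iff.2 fun h => e (Nat.eq_of_beq_eq_true h).symm
        show Nat.ble _ _ = false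
        rw [lev, this]
        cases opp a i <;> exact Bool.eq_false_iff.2 fun h' => by simpa using Nat.le_of_ble_eq_true h'
    intro i hi hP
    rw [hv', ap_smul, hga, Pi.smul_apply, Pi.smul_apply, bs_cd hi ha]
    by_cases e : i = a
    · subst e
      have := hv i hi hP
      rw [this]; simp
    · simp [e]

lemma inv_and {g : GL ι F} {P Q : ℕ → Bool} (hP : Inv g P) (hQ : Inv g Q) : Inv g fun i => P i && Q i := by
  intro v hv i hi h
  rcases Bool.and_eq_false_iff.1 h with h | h
  · exact hP v (fun j hj e => hv j hj (by simp [e])) i hi h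
  · exact hQ v (fun j hj e => hv j hj (by simp [e])) i hi h

lemma inv_or {g : GL ι F} {P Q : ℕ → Bool} (hP : Inv g P) (hQ : Inv g Q) : Inv g fun i => P i || Q i := by
  intro v hv i hi h
  obtain ⟨h1, h2⟩ := Bool.or_eq_false_iff.1 h
  classical
  let u : ι → F := fun x => if ∃ j < 27, cd j = x ∧ P j = true then v x else 0
  have hu : Supp P u := fun j hj e => by
    refine if_neg fun ⟨j', hj', he, hP'⟩ => ?_
    rw [cd_inj hj' hj he, e] at hP'
    exact Bool.false_ne_true hP'
  have hw : Supp Q (v - u) := fun j hj e => by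
    show v (cd j) - u (cd j) = 0
    cases hPj : P j with
    | true => simp only [u, if_pos (⟨j, hj, rfl, hPj⟩ : ∃ j' < 27, cd j' = cd j ∧ P j' = true), sub_self]
    | false => rw [hu j hj hPj, hv j hj (by simp [hPj, e]), sub_zero]
  have : ap g v = ap g u + ap g (v - u) := by rw [ap, ← Matrix.mulVec_add]; simp
  rw [this, Pi.add_apply, hP u hu i hi h1, hQ _ hw i hi h2, add_zero]

/-- the coordinates allowed at a step -/
def Hset (t : ℕ) (S : List ℕ) (j : ℕ) : Bool := S.all fun a => Nat.ble (lev a t) (lev a j)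

/-- the coordinates allowed and strictly higher somewhere -/
def strict (t : ℕ) (S : List ℕ) (j : ℕ) : Bool := Hset t S j && S.any fun a => Nat.ble (lev a t + 1) (lev a j)

lemma inv_H (h3 : 3 ≤ Fintype.card F) {g : GL ι F} (hg : Isom g) {k : ℕ} (hk : k ≤ 27) (hfix : FixLines g k)
    (t : ℕ) : ∀ {S : List ℕ}, (∀ a ∈ S, a < k) → Inv g (Hset t S) := by
  intro S hS
  induction S with
  | nil => intro v _ i _ h; simp [Hset] at h
  | cons a S ih =>
    obtain ⟨c, hc⟩ := hfix a (hS a List.mem_cons_self)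
    have h1 := inv_and (inv_level h3 hg (lt_of_lt_of_le (hS a List.mem_cons_self) hk) hc (lev a t))
      (ih fun x hx => hS x (List.mem_cons_of_mem _ hx))
    exact h1

lemma inv_strict (h3 : 3 ≤ Fintype.card F) {g : GL ι F} (hg : Isom g) {k : ℕ} (hk : k ≤ 27) (hfix : FixLines g k)
    (t : ℕ) {S : List ℕ} (hS : ∀ a ∈ S, a < k) : Inv g (strict t S) := by
  refine inv_and (inv_H h3 hg hk hfix t hS) ?_
  clear * - h3 hg hk hfix hS
  induction S with
  | nil =>
    intro v hv i hi _
    have h0 : v = 0 := vec_ext fun j hj => hv j hj rfl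
    rw [h0, ap, Matrix.mulVec_zero]; rfl
  | cons a S ih =>
    obtain ⟨c, hc⟩ := hfix a (hS a List.mem_cons_self)
    have h1 := inv_or (inv_level h3 hg (lt_of_lt_of_le (hS a List.mem_cons_self) hk) hc (lev a t + 1))
      (ih fun x hx => hS x (List.mem_cons_of_mem _ hx))
    simpa [List.any_cons] using h1

lemma inv_rev {g : GL ι F} {P : ℕ → Bool} (hP : Inv g P) {v : ι → F} (hv : Supp P (ap g v)) : Supp P v := by
  classical
  let X := {w : ι → F // Supp P w}
  let f : X → X := fun w => ⟨ap g w.1, hP _ w.2⟩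
  have hf : Function.Injective f := fun x y h => Subtype.ext (ap_inj g (congrArg Subtype.val h))
  obtain ⟨w, hw⟩ := (Finite.injective_iff_surjective.1 hf) ⟨ap g v, hv⟩
  exact ap_inj g (congrArg Subtype.val hw) ▸ w.2

/-- elements of `EG` fixing the first vectors -/
def Keep (k : ℕ) (e : GL ι F) : Prop := e ∈ EG F ∧ ∀ a < k, ap e (bs F (cd a)) = bs F (cd a)

lemma Keep.one (k : ℕ) : Keep k (1 : GL ι F) := ⟨one_mem _, fun _ _ => ap_one _⟩

lemma Keep.mul {k : ℕ} {e e' : GL ι F} (h : Keep k e) (h' : Keep k e') : Keep k (e * e') :=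
  ⟨mul_mem h.1 h'.1, fun a ha => by rw [ap_mul, h'.2 a ha, h.2 a ha]⟩

/-- the root fixes the first vectors -/
noncomputable def fixR (k r : ℕ) : Bool := Nat.ble (r + 1) 72 && (entN r).all fun e => Nat.ble k e.1

lemma keep_xE {k r : ℕ} (h : fixR k r = true) (hk : k ≤ 27) (t : F) : Keep k (xE r t) := by
  simp only [fixR, Bool.and_eq_true] at h
  refine ⟨xE_mem r (Nat.le_of_ble_eq_true h.1) t, fun a ha => vec_ext fun i hi => ?_⟩
  rw [xE_apply, dd, into_cd r hi, List.map_map, List.sum_eq_zero, mul_zero, add_zero]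
  intro x hx
  obtain ⟨e, he, rfl⟩ := List.mem_map.1 hx
  have he' := List.mem_of_mem_filter he
  have := Nat.le_of_ble_eq_true (List.all_eq_true.1 h.2 e he')
  show (e.2.2 : F) * bs F (cd a) (cd e.1) = 0
  rw [bs_cd (ent_facts he').1 (lt_of_lt_of_le ha hk), if_neg (by omega), mul_zero]

/-- a root moving exactly one coordinate to `n` from `j` -/
noncomputable def moves (r j n : ℕ) : Bool :=
  match intoN r n with
  | [(x, _, c)] => Nat.beq x j && (c == 1 || c == -1)
  | _ => false

lemma moves_apply {r j n : ℕ} (hn : n < 27) (h : moves r j n = true) :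
    ∃ c : F, c ≠ 0 ∧ ∀ (t : F) (v : ι → F), ap (xE r t) v (cd n) = v (cd n) + t * (c * v (cd j)) := by
  unfold moves at h
  split at h
  · rename_i x y c heq
    simp only [Bool.and_eq_true, Bool.or_eq_true, beq_iff_eq] at h
    obtain ⟨hx, hc⟩ := h
    refine ⟨(c : F), ?_, fun t v => ?_⟩
    · rcases hc with rfl | rfl <;> simp
    · rw [xE_apply, dd, into_cd r hn, heq, ← Nat.eq_of_beq_eq_true hx]
      simp
  · exact absurd h Bool.false_ne_true

/-- a path ending at the wanted coordinate -/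
noncomputable def pathOK (k t : ℕ) : ℕ → List (ℕ × ℕ) → Bool
  | j, [] => Nat.beq j t
  | j, (r, n) :: p => Nat.ble (n + 1) 27 && fixR k r && moves r j n && pathOK k t n p

lemma path_spec {k t : ℕ} (hk : k ≤ 27) : ∀ {p : List (ℕ × ℕ)} {j : ℕ}, pathOK k t j p = true →
    ∀ v : ι → F, v (cd j) ≠ 0 → ∃ e, Keep k e ∧ ap e v (cd t) ≠ 0 := by
  intro p
  induction p with
  | nil =>
    intro j h v hv
    exact ⟨1, Keep.one k, by rw [ap_one]; rwa [← Nat.eq_of_beq_eq_true h]⟩
  | cons q p ih =>
    obtain ⟨r, n⟩ := q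
    intro j h v hv
    simp only [pathOK, Bool.and_eq_true] at h
    obtain ⟨⟨⟨hn, hf⟩, hm⟩, hp⟩ := h
    by_cases hvn : v (cd n) = 0
    · obtain ⟨c, hc, hmv⟩ := moves_apply (F := F) (Nat.le_of_ble_eq_true hn) hm
      obtain ⟨e, he, h2⟩ := ih hp (ap (xE r 1) v) (by rw [hmv, hvn, zero_add, one_mul]; exact mul_ne_zero hc hv)
      exact ⟨e * xE r 1, he.mul (keep_xE hf hk 1), by rwa [ap_mul]⟩
    · exact ih hp v hvn

/-- a root clearing the neighbour `j` of `t` -/
noncomputable def clearOK (k t : ℕ) (q : ℕ × ℕ) : Bool :=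
  Nat.ble (q.1 + 1) 27 && fixR k q.2 && moves q.2 t q.1 && !Nat.beq q.1 t &&
    (entN q.2).all fun e => Nat.beq e.2.1 q.1 || Nat.beq (lev t e.2.1) 0

lemma lev_self (t : ℕ) : lev t t = 2 := by simp [lev]

lemma clear_spec {k t : ℕ} (hk : k ≤ 27) (ht : t < 27) : ∀ L : List (ℕ × ℕ), L.all (clearOK k t) = true →
    ∀ v : ι → F, v (cd t) ≠ 0 → ∃ e, Keep k e ∧ ap e v (cd t) = v (cd t) ∧
      ∀ i < 27, lev t i = 1 → (i ∈ L.map Prod.fst → ap e v (cd i) = 0) ∧
        (i ∉ L.map Prod.fst → ap e v (cd i) = v (cd i)) := by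
  intro L
  induction L with
  | nil => exact fun _ v _ => ⟨1, Keep.one k, by rw [ap_one], fun i _ _ => by simp [ap_one]⟩
  | cons q L ih =>
    intro h v hv
    rw [List.all_cons, Bool.and_eq_true] at h
    obtain ⟨hq, hL⟩ := h
    simp only [clearOK, Bool.and_eq_true, Bool.not_eq_true'] at hq
    obtain ⟨⟨⟨⟨hj, hf⟩, hm⟩, hjt⟩, hall⟩ := hq
    obtain ⟨j, r⟩ := q
    have hj := Nat.le_of_ble_eq_true hj
    obtain ⟨c, hc, hmv⟩ := moves_apply (F := F) hj hm
    set x := -(v (cd j)) / (c * v (cd t))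
    have hoth : ∀ i < 27, i ≠ j → lev t i ≠ 0 → ap (xE r x) v (cd i) = v (cd i) := by
      intro i hi hij hl
      rw [xE_apply, dd, into_cd r hi, intoN, List.filter_eq_nil_iff.2 fun e he h' => ?_]
      · simp
      · have := List.all_eq_true.1 hall e he
        rw [Nat.eq_of_beq_eq_true h', Bool.or_eq_true] at this
        rcases this with h2 | h2
        · exact hij (Nat.eq_of_beq_eq_true h2)
        · exact hl (Nat.eq_of_beq_eq_true h2)
    have htj : t ≠ j := fun e => by rw [e, Nat.beq_refl] at hjt; exact Bool.noConfusion hjt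
    have hvt : ap (xE r x) v (cd t) = v (cd t) := hoth t ht htj (by rw [lev_self]; omega)
    have hvj : ap (xE r x) v (cd j) = 0 := by
      rw [hmv]; simp only [x]; field_simp; ring
    obtain ⟨e, he, h1, h2⟩ := ih hL (ap (xE r x) v) (by rw [hvt]; exact hv)
    refine ⟨e * xE r x, he.mul (keep_xE hf hk x), by rw [ap_mul, h1, hvt], fun i hi hl => ?_⟩
    rw [ap_mul, List.map_cons, List.mem_cons]
    refine ⟨fun hmem => ?_, fun hmem => ?_⟩
    · by_cases hiL : i ∈ L.map Prod.fst
      · exact (h2 i hi hl).1 hiL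
      · rw [(h2 i hi hl).2 hiL]
        obtain rfl : i = j := hmem.resolve_right hiL
        exact hvj
    · push Not at hmem
      rw [(h2 i hi hl).2 hmem.2, hoth i hi hmem.1 (by omega)]

/-- membership in the set of coordinates of level different from one -/
def off1 (t i : ℕ) : Bool := !Nat.beq (lev t i) 1

/-- the check of one step -/
noncomputable def stepOK (k : ℕ) (C : List (ℕ × ℕ) × List (ℕ × List (ℕ × ℕ))) : Bool :=
  C.1.all (clearOK k k) &&
  ((List.range 27).all fun i => !(Hset k (List.range k) i && Nat.beq (lev k i) 1) ||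
    C.1.any fun q => Nat.beq q.1 i) &&
  ((List.range 27).all fun j => !Hset k (List.range k) j || strict k (List.range k) j ||
    C.2.any fun q => Nat.beq q.1 j && pathOK k k j q.2) &&
  (Hset k (List.range k) k && !strict k (List.range k) k) &&
  (List.range 27).all fun i => !Nat.beq (lev k i) 0 || (List.range 27).any fun c =>
    match (pairsA c).filter fun p => off1 k p.1 && off1 k p.2.1 with
    | [(x, y, s)] => (Nat.beq x k && Nat.beq y i || Nat.beq x i && Nat.beq y k) && (s == 1 || s == -1)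
    | _ => false

theorem step_check : ((List.range 27).all fun k => stepOK k (certN.getD k ([], []))) = true := by
  decide +kernel

lemma step (h3 : 3 ≤ Fintype.card F) {g : GL ι F} (hg : Isom g) {k : ℕ} (hk : k < 27) (hfix : FixLines g k) :
    ∃ e ∈ EG F, FixLines (e * g) (k + 1) := by
  have hS : ∀ a ∈ List.range k, a < k := fun a ha => List.mem_range.1 ha
  have hc := List.all_eq_true.1 step_check k (List.mem_range.2 hk)
  simp only [stepOK, Bool.and_eq_true] at hc
  obtain ⟨⟨⟨⟨hclear, hcov⟩, hpath⟩, hHt, hnst⟩, hoppc⟩ := hc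
  rw [Bool.not_eq_true'] at hnst
  set v := ap g (bs F (cd k))
  have het : ∀ P : ℕ → Bool, P k = true → Supp P (bs F (cd k)) := fun P hP i hi h => by
    rw [bs_cd hi hk, if_neg fun e => by rw [e, hP] at h; exact Bool.noConfusion h]
  -- some coordinate of the class
  obtain ⟨j, hj, hjH, hjs, hvj⟩ : ∃ j < 27, Hset k (List.range k) j = true ∧ strict k (List.range k) j = false ∧
      v (cd j) ≠ 0 := by
    by_contra hno
    have h1 : Supp (strict k (List.range k)) v := fun i hi h => by
      by_contra hne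
      cases hH : Hset k (List.range k) i with
      | true => exact hno ⟨i, hi, hH, h, hne⟩
      | false => exact hne (inv_H h3 hg hk.le hfix k hS _ (het _ hHt) i hi hH)
    have := inv_rev (inv_strict h3 hg hk.le hfix k hS) h1 k hk hnst
    simp [bs] at this
  obtain ⟨q, -, hq⟩ : ∃ q ∈ (certN.getD k ([], [])).2, (Nat.beq q.1 j && pathOK k k j q.2) = true := by
    have := List.all_eq_true.1 hpath j (List.mem_range.2 hj)
    rw [hjH, hjs, Bool.not_true, Bool.false_or, Bool.false_or] at this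
    exact List.any_eq_true.1 this
  rw [Bool.and_eq_true] at hq
  obtain ⟨e₁, he₁, hne₁⟩ := path_spec hk.le hq.2 v hvj
  obtain ⟨e₂, he₂, ht₂, hnb⟩ := clear_spec hk.le hk _ hclear _ hne₁
  set g' := e₂ * e₁ * g
  have hg' : Isom g' := isom_of_mem (mul_mem (EG_isom (mul_mem he₂.1 he₁.1)) (mem_of_isom hg))
  have hfix' : FixLines g' k := fun a ha => by
    obtain ⟨c, hc⟩ := hfix a ha
    exact ⟨c, by rw [ap_mul, hc, ap_smul, (he₂.mul he₁).2 a ha]⟩
  set w := ap g' (bs F (cd k))
  have hw : w = ap e₂ (ap e₁ v) := by simp only [w, g', v, ap_mul]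
  have hwH : Supp (Hset k (List.range k)) w := inv_H h3 hg' hk.le hfix' k hS _ (het _ hHt)
  have hwt : w (cd k) ≠ 0 := by rw [hw, ht₂]; exact hne₁
  have hw1 : ∀ i < 27, lev k i = 1 → w (cd i) = 0 := by
    intro i hi hl
    cases hH : Hset k (List.range k) i with
    | false => exact hwH i hi hH
    | true =>
      have := List.all_eq_true.1 hcov i (List.mem_range.2 hi)
      rw [hH, hl, show Nat.beq 1 1 = true from rfl, Bool.and_self, Bool.not_true, Bool.false_or] at this
      obtain ⟨p, hp, hp'⟩ := List.any_eq_true.1 this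
      rw [hw]
      exact (hnb i hi hl).1 (List.mem_map.2 ⟨p, hp, Nat.eq_of_beq_eq_true hp'⟩)
  have hsing : Sing w := sing_ap h3 hg' (sing_bs k hk)
  have hw0 : ∀ i < 27, lev k i = 0 → w (cd i) = 0 := by
    intro i hi hl
    have := List.all_eq_true.1 hoppc i (List.mem_range.2 hi)
    rw [hl, show Nat.beq 0 0 = true from rfl, Bool.not_true, Bool.false_or] at this
    obtain ⟨c, hc', hm⟩ := List.any_eq_true.1 this
    have hc27 := List.mem_range.1 hc'
    split at hm
    · rename_i x y s heq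
      simp only [Bool.and_eq_true, Bool.or_eq_true, beq_iff_eq] at hm
      obtain ⟨hxy, hs⟩ := hm
      have h := hsing (bs F (cd c))
      rw [QA_bs hc27, bev_filter (pairsA c) (fun p => off1 k p.1 && off1 k p.2.1) w w (fun p hp hoff => by
        obtain ⟨m, hm', hpm⟩ := List.mem_flatMap.1 hp
        obtain ⟨b1, b2, b3⟩ := monN_lt hm'
        have hlt : p.1 < 27 ∧ p.2.1 < 27 := by
          rcases List.mem_append.1 hpm with h | h
          · rcases List.mem_append.1 h with h | h <;>
            · rcases hb : Nat.beq _ c <;> rw [hb] at h <;> simp at h <;> subst h <;>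
                exact ⟨by assumption, by assumption⟩
          · rcases hb : Nat.beq _ c <;> rw [hb] at h <;> simp at h <;> subst h <;>
              exact ⟨by assumption, by assumption⟩
        rcases Bool.and_eq_false_iff.1 hoff with h | h
        · rw [off1, Bool.not_eq_false'] at h
          rw [hw1 _ hlt.1 (Nat.eq_of_beq_eq_true h), zero_mul]
        · rw [off1, Bool.not_eq_false'] at h
          rw [hw1 _ hlt.2 (Nat.eq_of_beq_eq_true h), mul_zero]), heq] at h
      rcases hxy with ⟨hx, hy⟩ | ⟨hx, hy⟩ <;> rw [Nat.eq_of_beq_eq_true hx, Nat.eq_of_beq_eq_true hy] at h <;>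
        rcases hs with rfl | rfl <;> simpa [bev, hwt] using h
    · exact absurd hm Bool.false_ne_true
  refine ⟨e₂ * e₁, mul_mem he₂.1 he₁.1, fun a ha => ?_⟩
  rcases Nat.lt_succ_iff_lt_or_eq.1 ha with ha | rfl
  · exact hfix' a ha
  · refine ⟨w (cd a), vec_ext fun i hi => ?_⟩
    show w (cd i) = _
    rw [Pi.smul_apply, bs_cd hi hk, smul_eq_mul]
    by_cases e : i = a
    · subst e; simp
    · rw [if_neg e, mul_zero]
      have hne : Nat.beq a i = false := Bool.eq_false_iff.2 fun h => e (Nat.eq_of_beq_eq_true h).symm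
      cases ho : opp a i with
      | true => exact hw0 i hi (by rw [lev, hne, ho]; rfl)
      | false => exact hw1 i hi (by rw [lev, hne, ho]; rfl)

/-- reduction to a diagonal element -/
theorem exists_diag (h3 : 3 ≤ Fintype.card F) {g : GL ι F} (hg : g ∈ E6univ F) :
    ∃ e ∈ EG F, FixLines (e * g) 27 := by
  suffices ∀ k ≤ 27, ∃ e ∈ EG F, FixLines (e * g) k from this 27 le_rfl
  intro k
  induction k with
  | zero => exact fun _ => ⟨1, one_mem _, fun a ha => absurd ha (Nat.not_lt_zero a)⟩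
  | succ k ih =>
    intro hk
    obtain ⟨e, he, hfix⟩ := ih (by omega)
    obtain ⟨e', he', hfix'⟩ := step h3 (isom_of_mem (mul_mem (EG_isom he) hg)) (show k < 27 by omega) hfix
    exact ⟨e' * e, mul_mem he' he, by rw [mul_assoc]; exact hfix'⟩

end CfsgLib.Chev.E6Form
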