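/-
Diagonal isometries of the cubic form are generated by root elements.
-/
import Cfsg.Agent.Lib.Chev.E6Form.Elim

set_option autoImplicit false
set_option maxRecDepth 100000
set_option linter.unusedSimpArgs false
set_option linter.unusedSectionVars false

namespace CfsgLib.Chev.E6Form

open Cfsg.Lie Matrix CfsgLib.Chev

variable {F : Type*} [Field F]

/-- negative of a simple root -/
def negS (l : Fin 6) : ℕ := chevE6.neg (simpleR l)

/-- the exponent of a torus element at a coordinate -/
noncomputable def lam (l : Fin 6) (i : ℕ) : ℤ :=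
  ((intoN (simpleR l) i).length : ℤ) - ((intoN (negS l) i).length : ℤ)

/-- a pair of opposite root elements, seen at one coordinate -/
noncomputable def pairOK (r n i : ℕ) : Bool :=
  match intoN r i, intoN n i with
  | [], [] => true
  | [(s, _, c)], [] =>
    (c == 1 || c == -1) && (intoN r s).isEmpty && decide (intoN n s = [(i, s, c)])
  | [], [(j, _, c)] =>
    (c == 1 || c == -1) && (intoN n j).isEmpty && decide (intoN r j = [(i, j, c)])
  | _, _ => false

/-- the check for the simple roots -/
noncomputable def torusOK : Bool := (List.finRange 6).all fun l =>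
  Nat.ble (simpleR l + 1) 72 && Nat.ble (negS l + 1) 72 &&
    (List.range 27).all fun i => pairOK (simpleR l) (negS l) i

theorem torus_check : torusOK = true := by decide +kernel

/-- the monomial element of a pair of opposite roots -/
noncomputable def nE (r n : ℕ) (t : F) : GL ι F := xE r t * xE n (-t⁻¹) * xE r t

/-- the torus element of a pair of opposite roots -/
noncomputable def hE (r n : ℕ) (t : F) : GL ι F := nE r n t * nE r n (-1)

lemma dd_nil {r i : ℕ} (hi : i < 27) (h : intoN r i = []) (v : ι → F) : dd r v (cd i) = 0 := by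
  rw [dd, into_cd r hi, h]; rfl

lemma dd_one {r i j y : ℕ} {c : ℤ} (hi : i < 27) (h : intoN r i = [(j, y, c)]) (v : ι → F) :
    dd r v (cd i) = (c : F) * v (cd j) := by
  rw [dd, into_cd r hi, h]; simp

lemma nE_zero {r n i : ℕ} (hi : i < 27) (h1 : intoN r i = []) (h2 : intoN n i = []) (t : F) (v : ι → F) :
    ap (nE r n t) v (cd i) = v (cd i) := by
  simp only [nE, ap_mul, xE_apply, dd_nil hi h1, dd_nil hi h2, mul_zero, add_zero]

lemma nE_pair {r n i s y y' : ℕ} {c : ℤ} (hi : i < 27) (hs : s < 27) (hc : c = 1 ∨ c = -1)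
    (h1 : intoN r i = [(s, y, c)]) (h2 : intoN n i = []) (h3 : intoN r s = [])
    (h4 : intoN n s = [(i, y', c)]) {t : F} (ht : t ≠ 0) (v : ι → F) :
    ap (nE r n t) v (cd i) = t * (c : F) * v (cd s) ∧ ap (nE r n t) v (cd s) = -((c : F) / t) * v (cd i) := by
  have hc2 : (c : F) * (c : F) = 1 := by rcases hc with rfl | rfl <;> simp
  simp only [nE, ap_mul, xE_apply, dd_one hi h1, dd_nil hi h2, dd_nil hs h3, dd_one hs h4, mul_zero, add_zero]
  constructor <;> rcases hc with rfl | rfl <;> field_simp <;> ring

lemma into_lt {r i j y : ℕ} {c : ℤ} (h : intoN r i = [(j, y, c)]) : j < 27 :=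
  (ent_facts (List.mem_of_mem_filter (show (j, y, c) ∈ intoN r i by rw [h]; exact List.mem_cons_self))).1

lemma hE_diag {l : Fin 6} {i : ℕ} (hi : i < 27) (t : Fˣ) (v : ι → F) :
    ap (hE (simpleR l) (negS l) (t : F)) v (cd i) = ((t ^ lam l i : Fˣ) : F) * v (cd i) := by
  have h := List.all_eq_true.1 torus_check l (List.mem_finRange l)
  simp only [Bool.and_eq_true] at h
  have hp := List.all_eq_true.1 h.2 i (List.mem_range.2 hi)
  unfold pairOK at hp
  have h1 : (-1 : F) ≠ 0 := neg_ne_zero.2 one_ne_zero
  rw [hE, ap_mul]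
  split at hp
  · rename_i e1 e2
    rw [nE_zero hi e1 e2, nE_zero hi e1 e2, lam, e1, e2]
    simp
  · rename_i s y c e1 e2
    simp only [Bool.and_eq_true, Bool.or_eq_true, beq_iff_eq, decide_eq_true_eq, List.isEmpty_iff] at hp
    obtain ⟨⟨hc, e3⟩, e4⟩ := hp
    obtain ⟨a, -⟩ := nE_pair hi (into_lt e1) hc e1 e2 e3 e4 t.ne_zero (ap (nE (simpleR l) (negS l) (-1 : F)) v)
    obtain ⟨-, b⟩ := nE_pair hi (into_lt e1) hc e1 e2 e3 e4 h1 v
    rw [a, b, lam, e1, e2]
    rcases hc with rfl | rfl <;> simp
  · rename_i j y c e1 e2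
    simp only [Bool.and_eq_true, Bool.or_eq_true, beq_iff_eq, decide_eq_true_eq, List.isEmpty_iff] at hp
    obtain ⟨⟨hc, e3⟩, e4⟩ := hp
    obtain ⟨-, a⟩ := nE_pair (into_lt e2) hi hc e4 e3 e1 e2 t.ne_zero (ap (nE (simpleR l) (negS l) (-1 : F)) v)
    obtain ⟨b, -⟩ := nE_pair (into_lt e2) hi hc e4 e3 e1 e2 h1 v
    rw [a, b, lam, e1, e2]
    rcases hc with rfl | rfl <;> simp <;> ring
  · exact absurd hp Bool.false_ne_true

lemma hE_mem (l : Fin 6) (t : F) : hE (simpleR l) (negS l) t ∈ EG F := by
  have h := List.all_eq_true.1 torus_check l (List.mem_finRange l)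
  simp only [Bool.and_eq_true] at h
  have h1 := Nat.le_of_ble_eq_true h.1.1
  have h2 := Nat.le_of_ble_eq_true h.1.2
  exact mul_mem (mul_mem (mul_mem (xE_mem _ h1 _) (xE_mem _ h2 _)) (xE_mem _ h1 _))
    (mul_mem (mul_mem (xE_mem _ h1 _) (xE_mem _ h2 _)) (xE_mem _ h1 _))

/-- the seed coordinates by number -/
def seedN : Fin 6 → ℕ := ![0, 1, 2, 3, 9, 10]

/-- weights cancel on monomials, the seeds have unimodular weights and determine the rest -/
noncomputable def weightOK : Bool :=
  (monN.all fun m => (List.finRange 6).all fun l => lam l m.1 + lam l m.2.1 + lam l m.2.2.1 == 0) &&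
  ((List.finRange 6).all fun b => (List.finRange 6).all fun b' =>
    (((List.finRange 6).map fun l => lam l (seedN b) * minv l b').sum == if b = b' then 1 else 0)) &&
  ((monN.all fun m => m.2.2.2 == 1 || m.2.2.2 == -1) &&
  monN.all fun m => ((linA m.1).filter fun p => Nat.beq p.1 m.2.1 && Nat.beq p.2.1 m.2.2.1).map (·.2.2) == [m.2.2.2])

theorem weight_check : weightOK = true := by decide +kernel

/-- the coordinates reached from a list -/
def reach : List (ℕ × ℕ × ℕ) → List ℕ → List ℕ
  | [], S => S
  | (k, i, j) :: L, S =>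
    cond (S.contains i && S.contains j && monN.any fun m =>
      decide ([m.1, m.2.1, m.2.2.1].Perm [k, i, j])) (reach L (k :: S)) (reach L S)

/-- the seeds determine all coordinates -/
def reachOK : Bool := (List.range 27).all fun i => (reach propN [0, 1, 2, 3, 9, 10]).contains i

theorem reach_check : reachOK = true := by decide +kernel

lemma agree_reach {d P : ℕ → Fˣ}
    (hd : ∀ m ∈ monN, d m.1 * d m.2.1 * d m.2.2.1 = 1) (hP : ∀ m ∈ monN, P m.1 * P m.2.1 * P m.2.2.1 = 1) :
    ∀ (L : List (ℕ × ℕ × ℕ)) (S : List ℕ), (∀ i ∈ S, d i = P i) → ∀ i ∈ reach L S, d i = P i := by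
  intro L
  induction L with
  | nil => exact fun S h => h
  | cons q L ih =>
    obtain ⟨k, i, j⟩ := q
    intro S hS
    rw [reach]
    cases hb : (S.contains i && S.contains j && monN.any fun m => decide ([m.1, m.2.1, m.2.2.1].Perm [k, i, j])) with
    | false => exact ih S hS
    | true =>
      refine ih _ fun x hx => ?_
      rcases List.mem_cons.1 hx with rfl | hx
      · simp only [Bool.and_eq_true] at hb
        obtain ⟨⟨hi, hj⟩, hm⟩ := hb
        obtain ⟨m, hm, hp⟩ := List.any_eq_true.1 hm
        have hp := of_decide_eq_true hp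
        have e1 := (hp.map d).prod_eq
        have e2 := (hp.map P).prod_eq
        simp only [List.map_cons, List.map_nil, List.prod_cons, List.prod_nil, mul_one, ← mul_assoc, hd m hm,
          hP m hm] at e1 e2
        rw [hS i (by simpa using hi), hS j (by simpa using hj), mul_assoc] at e1
        rw [mul_assoc] at e2
        exact mul_right_cancel (e1.symm.trans e2)
      · exact hS x hx

lemma prod_zpow' {α : Type*} (s : Finset α) (x : Fˣ) (f : α → ℤ) : ∏ l ∈ s, x ^ f l = x ^ ∑ l ∈ s, f l := by
  classical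
  induction s using Finset.induction_on with
  | empty => simp
  | insert a s ha ih => rw [Finset.prod_insert ha, Finset.sum_insert ha, ih, _root_.zpow_add]

/-- a sum over terms at one place -/
lemma bev_const {i j : ℕ} (hi : i < 27) (hj : j < 27) {L : List (ℕ × ℕ × ℤ)}
    (h : ∀ p ∈ L, p.1 = i ∧ p.2.1 = j) :
    bev L (bs F (cd i)) (bs F (cd j)) = (((L.map fun p => p.2.2).sum : ℤ) : F) := by
  induction L with
  | nil => simp [bev]
  | cons p L ih =>
    have h' := ih fun q hq => h q (List.mem_cons_of_mem _ hq)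
    obtain ⟨e1, e2⟩ := h p List.mem_cons_self
    rw [bev] at h' ⊢
    simp only [List.map_cons, List.sum_cons, h', e1, e2, bs_cd hi hi, bs_cd hj hj, if_true, mul_one, Int.cast_add]

variable [Fintype F]

/-- a diagonal isometry lies in `EG` -/
theorem diag_mem (h3 : 3 ≤ Fintype.card F) {g : GL ι F} (hg : g ∈ E6univ F) (hfix : FixLines g 27) :
    g ∈ EG F := by
  have hiso := isom_of_mem hg
  choose d₀ hd₀ using hfix
  have hd0 : ∀ a (ha : a < 27), d₀ a ha ≠ 0 := fun a ha e => by
    have h0 : ap g (bs F (cd a)) = ap g 0 := by rw [hd₀ a ha, e, zero_smul, ap, Matrix.mulVec_zero]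
    simpa [bs] using congrFun (ap_inj g h0) (cd a)
  let d : ℕ → Fˣ := fun a => if ha : a < 27 then Units.mk0 (d₀ a ha) (hd0 a ha) else 1
  have hd : ∀ a < 27, ap g (bs F (cd a)) = (d a : F) • bs F (cd a) := fun a ha => by
    rw [hd₀ a ha]; simp [d, ha]
  have hw := weight_check
  simp only [weightOK, Bool.and_eq_true] at hw
  obtain ⟨⟨hlam, hseed⟩, hsgn, hlin⟩ := hw
  have hdmon : ∀ m ∈ monN, d m.1 * d m.2.1 * d m.2.2.1 = 1 := by
    intro m hm
    obtain ⟨b1, b2, b3⟩ := monN_lt hm
    have hs : (m.2.2.2 : F) ≠ 0 := by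
      have := List.all_eq_true.1 hsgn m hm
      simp only [Bool.or_eq_true, beq_iff_eq] at this
      rcases this with e | e <;> simp [e]
    have hB : QB (bs F (cd m.1)) (bs F (cd m.2.1)) (bs F (cd m.2.2.1)) = (m.2.2.2 : F) := by
      rw [QB_bs b1, bev_filter (linA m.1) (fun p => Nat.beq p.1 m.2.1 && Nat.beq p.2.1 m.2.2.1) _ _
        (fun p hp hq => ?_)]
      · have h := List.all_eq_true.1 hlin m hm
        rw [beq_iff_eq] at h
        rw [bev_const b2 b3 fun p hp => ?_, h]
        · simp
        · obtain ⟨-, hq⟩ := List.mem_filter.1 hp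
          simpa [nbeq_eq] using hq
      · obtain ⟨m', hm', hpm⟩ := List.mem_flatMap.1 hp
        obtain ⟨c1, c2, c3⟩ := monN_lt hm'
        have hlt : p.1 < 27 ∧ p.2.1 < 27 := by
          rcases List.mem_append.1 hpm with h | h
          · rcases List.mem_append.1 h with h | h <;>
            · rcases hb : Nat.beq _ m.1 <;> rw [hb] at h <;> simp at h <;> rcases h with rfl | rfl <;>
                exact ⟨by assumption, by assumption⟩
          · rcases hb : Nat.beq _ m.1 <;> rw [hb] at h <;> simp at h <;> rcases h with rfl | rfl <;>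
              exact ⟨by assumption, by assumption⟩
        rw [bs_cd hlt.1 b2, bs_cd hlt.2 b3]
        simp only [nbeq_eq, Bool.and_eq_false_iff, decide_eq_false_iff_not] at hq
        rcases hq with e | e <;> simp [e]
    have h := QB_inv h3 hiso (bs F (cd m.1)) (bs F (cd m.2.1)) (bs F (cd m.2.2.1))
    rw [hd _ b1, hd _ b2, hd _ b3, QB, BL_smul, BL_smul₂, BL_smul₃] at h
    simp only [QB] at hB h
    rw [hB] at h
    refine Units.ext ?_
    rw [Units.val_mul, Units.val_mul, Units.val_one]
    refine mul_right_cancel₀ hs ?_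
    rw [one_mul]; linear_combination h
  let u : Fin 6 → Fˣ := fun l => ∏ b : Fin 6, d (seedN b) ^ minv l b
  let P : ℕ → Fˣ := fun i => ∏ l : Fin 6, u l ^ lam l i
  have hP : ∀ m ∈ monN, P m.1 * P m.2.1 * P m.2.2.1 = 1 := by
    intro m hm
    simp only [P]
    rw [← Finset.prod_mul_distrib, ← Finset.prod_mul_distrib]
    refine Finset.prod_eq_one fun l _ => ?_
    have := List.all_eq_true.1 (List.all_eq_true.1 hlam m hm) l (List.mem_finRange l)
    rw [beq_iff_eq] at this
    rw [← _root_.zpow_add, ← _root_.zpow_add, this, zpow_zero]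
  have hseedP : ∀ b, d (seedN b) = P (seedN b) := by
    intro b
    simp only [P, u]
    simp_rw [← Finset.prod_zpow, ← _root_.zpow_mul]
    rw [Finset.prod_comm]
    have h1 : ∀ b' : Fin 6, ∏ l : Fin 6, d (seedN b') ^ (minv l b' * lam l (seedN b)) =
        d (seedN b') ^ (if b = b' then (1 : ℤ) else 0) := by
      intro b'
      have := List.all_eq_true.1 (List.all_eq_true.1 hseed b (List.mem_finRange b)) b' (List.mem_finRange b')
      rw [beq_iff_eq] at this
      rw [← this, prod_zpow', ← List.sum_toFinset _ (List.nodup_finRange 6), List.toFinset_finRange]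
      exact congrArg _ (Finset.sum_congr rfl fun l _ => mul_comm _ _)
    rw [Finset.prod_congr rfl fun b' _ => h1 b', Finset.prod_eq_single b (fun b' _ hne => by
      rw [if_neg fun e => hne e.symm, zpow_zero]) (fun h => absurd (Finset.mem_univ b) h), if_pos rfl, zpow_one]
  have hall : ∀ i < 27, d i = P i := fun i hi => by
    refine agree_reach hdmon hP propN [0, 1, 2, 3, 9, 10] ?_ i ?_
    · intro j hj
      simp only [List.mem_cons, List.not_mem_nil, or_false] at hj
      rcases hj with rfl | rfl | rfl | rfl | rfl | rfl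
      exacts [hseedP 0, hseedP 1, hseedP 2, hseedP 3, hseedP 4, hseedP 5]
    · simpa using List.all_eq_true.1 reach_check i (List.mem_range.2 hi)
  have hg' : g = ((List.finRange 6).map fun l => hE (simpleR l) (negS l) (u l : F)).prod := by
    refine Units.ext (Matrix.ext fun x y => ?_)
    obtain ⟨i, hi, rfl⟩ := cd_surj x
    obtain ⟨j, hj, rfl⟩ := cd_surj y
    have key : ∀ L : List (Fin 6), ∀ v : ι → F,
        ap ((L.map fun l => hE (simpleR l) (negS l) (u l : F)).prod) v (cd i) =
          (((L.map fun l => u l ^ lam l i).prod : Fˣ) : F) * v (cd i) := by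
      intro L
      induction L with
      | nil => intro v; simp [ap]
      | cons l L ihL =>
        intro v
        rw [List.map_cons, List.prod_cons, ap_mul, hE_diag hi, ihL, List.map_cons, List.prod_cons,
          Units.val_mul, mul_assoc]
    have h1 := key (List.finRange 6) (bs F (cd j))
    rw [show ((List.finRange 6).map fun l => u l ^ lam l i).prod = P i from (Fin.prod_univ_def _).symm,
      ← hall i hi] at h1
    have h2 := congrFun (hd j hj) (cd i)
    simp only [Pi.smul_apply, smul_eq_mul] at h2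
    simp only [ap, Matrix.mulVec_single_one, Matrix.col_apply] at h1 h2
    rw [h1, h2, bs_cd hi hj]
    by_cases e : i = j
    · subst e; rfl
    · simp [e]
  rw [hg']
  refine list_prod_mem fun y hy => ?_
  obtain ⟨l, -, rfl⟩ := List.mem_map.1 hy
  exact hE_mem l _

/-- every isometry is a product of root elements -/
theorem E6univ_eq (h3 : 3 ≤ Fintype.card F) : E6univ F = EG F := by
  refine le_antisymm (fun g hg => ?_) fun g hg => EG_isom hg
  obtain ⟨e, he, hfix⟩ := exists_diag h3 hg
  have := diag_mem h3 (mul_mem (EG_isom he) hg) hfix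
  simpa using mul_mem (inv_mem he) this

end CfsgLib.Chev.E6Form
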