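/-
The isometry group of the cubic form modulo its centre is the Chevalley group of type E6.
-/
import Cfsg.Agent.Lib.Chev.E6Form.Torus
import Cfsg.Agent.S1054
import Cfsg.Agent.S2395
import Cfsg.Agent.S2396

set_option autoImplicit false
set_option maxRecDepth 100000

namespace CfsgLib.Chev.E6Form

open Cfsg.Lie Matrix CfsgLib.Chev

variable {F : Type*} [Field F] [Fintype F]

theorem moving_check : (!((entN 0).isEmpty)) = true := by decide +kernel

/-- each target of a root has one source -/
noncomputable def into_one (r : ℕ) : Bool :=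
  (entN r).all fun e => decide (intoN r e.2.1 = [e]) && (e.2.2 == 1 || e.2.2 == -1)

theorem into_one_check : into_one 0 = true := by decide +kernel

omit [Fintype F] in
lemma xE_ne_one : xE 0 (1 : F) ≠ 1 := fun h => by
  have h0 := moving_check
  rcases hl : entN 0 with _ | ⟨e, L⟩
  · rw [hl] at h0; simp at h0
  have he : e ∈ entN 0 := by rw [hl]; exact List.mem_cons_self
  obtain ⟨hs, ht, -⟩ := ent_facts he
  have hm := congrFun (congrArg (fun g : GL ι F => ap g (bs F (cd e.1))) h) (cd e.2.1)
  simp only [ap_one, xE_apply, one_mul] at hm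
  have hone : into_one 0 = true := into_one_check
  simp only [into_one, List.all_eq_true] at hone
  have h1 := hone e he
  simp only [Bool.and_eq_true, decide_eq_true_eq, Bool.or_eq_true, beq_iff_eq] at h1
  rw [dd, into_cd 0 ht, h1.1] at hm
  rcases h1.2 with hc | hc <;> simp [hc] at hm

/-- the isomorphism -/
theorem E6_iso (h3 : 3 ≤ Fintype.card F) : Nonempty (E6 F ≃* ↥(chevE6.group F)) := by
  classical
  obtain ⟨θ, hθ, hθk, -⟩ := Cfsg.Agent.S2396.result (K := F) chevE6 (by simp) (by simp [chevE6, chevB2, chevG2])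
  have hperf := Cfsg.Agent.S2395.result (K := F) chevE6 (by simp) (by simp [chevE6, chevB2, chevG2])
  have hsimple := (Cfsg.Agent.S1054.result (F := F) chevE6 (by simp)).1
  let φ₀ : chevE6.SteinbergCover F →* ↥(E6univ F) := (coverE (F := F)).codRestrict _ fun y =>
    EG_isom (range_coverE (F := F) ▸ ⟨y, rfl⟩)
  have hφ₀ : Function.Surjective φ₀ := by
    rintro ⟨z, hz⟩
    rw [E6univ_eq h3, ← range_coverE] at hz
    obtain ⟨y, rfl⟩ := hz
    exact ⟨y, rfl⟩
  let φ := (QuotientGroup.mk' (Subgroup.center ↥(E6univ F))).comp φ₀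
  have hker : θ.ker ≤ φ.ker := fun z hz => by
    rw [MonoidHom.mem_ker, MonoidHom.comp_apply, QuotientGroup.mk'_apply, QuotientGroup.eq_one_iff,
      Subgroup.mem_center_iff]
    intro w
    obtain ⟨y, rfl⟩ := hφ₀ w
    rw [← map_mul, ← map_mul, Subgroup.mem_center_iff.1 (hθk hz) y]
  let χ := θ.liftOfSurjective hθ ⟨φ, hker⟩
  have hχ : ∀ y, χ (θ y) = φ y := fun y => MonoidHom.liftOfRightInverse_comp_apply _ _ _ ⟨φ, hker⟩ y
  have hχs : Function.Surjective χ := fun z => by
    obtain ⟨w, rfl⟩ := QuotientGroup.mk'_surjective _ z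
    obtain ⟨y, rfl⟩ := hφ₀ w
    exact ⟨θ y, hχ y⟩
  rcases hsimple.eq_bot_or_eq_top_of_normal χ.ker inferInstance with hk | hk
  · exact ⟨(MulEquiv.ofBijective χ ⟨(MonoidHom.ker_eq_bot_iff _).1 hk, hχs⟩).symm⟩
  · exfalso
    have htriv : ∀ y, φ₀ y ∈ Subgroup.center ↥(E6univ F) := fun y => by
      have : χ (θ y) = 1 := MonoidHom.mem_ker.1 (hk ▸ Subgroup.mem_top _)
      rw [hχ] at this
      exact (QuotientGroup.eq_one_iff _).1 this
    have h1 : commutator (chevE6.SteinbergCover F) ≤ φ₀.ker := by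
      rw [commutator_def, Subgroup.commutator_le]
      intro a _ b _
      rw [MonoidHom.mem_ker, map_commutatorElement, commutatorElement_eq_one_iff_commute]
      exact (Subgroup.mem_center_iff.1 (htriv a) (φ₀ b)).symm
    rw [hperf] at h1
    have h2 : φ₀ (chevE6.scGen F 0 1) = 1 := h1 (Subgroup.mem_top _)
    exact xE_ne_one ((lift_stX (F := F) (show 0 < 72 by norm_num) 1).symm.trans (congrArg Subtype.val h2))

end CfsgLib.Chev.E6Form
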